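/-
The finite orthogonal space of an extraspecial group of order 32 with a marked pair `u`, `a`.

Blueprint: `blueprint/S3272.md`, part P5'.
-/
import Mathlib.GroupTheory.Perm.Sign
import Mathlib.Data.Fintype.Prod
import Mathlib.Data.Fintype.Basic

set_option autoImplicit false
set_option synthInstance.maxSize 2000

namespace CfsgLib.NoEightConstrained.Extra

/-- Coordinates along `u`, `v`, `a`, `b`. -/
abbrev Vec := Bool × Bool × Bool × Bool

def add (x y : Vec) : Vec := (x.1 ^^ y.1, x.2.1 ^^ y.2.1, x.2.2.1 ^^ y.2.2.1, x.2.2.2 ^^ y.2.2.2)

/-- The exponent of `z` in the product of two standard representatives. -/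
def coc (β : Bool) (x y : Vec) : Bool :=
  (x.2.1 && y.1) ^^ (x.2.2.2 && y.2.2.1) ^^ (x.2.2.1 && y.2.2.1) ^^ (β && x.2.2.2 && y.2.2.2)

def mul5 (β : Bool) (x y : Vec × Bool) : Vec × Bool := (add x.1 y.1, x.2 ^^ y.2 ^^ coc β x.1 y.1)

def inv5 (β : Bool) (x : Vec × Bool) : Vec × Bool := (x.1, x.2 ^^ coc β x.1 x.1)

def zero : Vec := (false, false, false, false)
def eu : Vec := (true, false, false, false)
def ev : Vec := (false, true, false, false)
def ea : Vec := (false, false, true, false)
def eb : Vec := (false, false, false, true)

/-- Squares. -/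
def q (β : Bool) (x : Vec) : Bool := coc β x x

/-- Commutators. -/
def bil (β : Bool) (x y : Vec) : Bool := coc β x y ^^ coc β y x

/-- The linear map with given images of `v`, `a`, `b`, fixing `u`. -/
def lin (v' a' b' x : Vec) : Vec :=
  add (cond x.1 eu zero) (add (cond x.2.1 v' zero) (add (cond x.2.2.1 a' zero) (cond x.2.2.2 b' zero)))

/-- The codes `(ε, α, γ)`. -/
abbrev Code := Bool × Bool × Bool

def imA (c : Code) : Vec := (c.2.1, false, true, false)
def imB (c : Code) : Vec := (c.2.2, false, c.1, true)
def imV (β : Bool) (c : Code) : Vec :=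
  let k := c.2.2 ^^ (c.1 && c.2.1)
  let l := c.2.1
  (k ^^ (β && l) ^^ (k && l), true, k, l)

/-- The isometry with the given code. -/
def act (β : Bool) (c : Code) (x : Vec) : Vec := lin (imV β c) (imA c) (imB c) x

def cmul (c d : Code) : Code := (c.1 ^^ d.1, c.2.1 ^^ d.2.1, c.2.2 ^^ d.2.2 ^^ (d.1 && c.2.1))

def cinv (c : Code) : Code := (c.1, c.2.1, c.2.2 ^^ (c.1 && c.2.1))

def cone : Code := (false, false, false)

theorem vadd_comm : ∀ x y : Vec, add x y = add y x := by decide +kernel

theorem vadd_assoc : ∀ x y w : Vec, add (add x y) w = add x (add y w) := by decide +kernel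

theorem add_self : ∀ x : Vec, add x x = zero := by decide +kernel

theorem vadd_zero : ∀ x : Vec, add x zero = x ∧ add zero x = x := by decide +kernel

theorem add_eq_zero : ∀ x y : Vec, add x y = zero → x = y := by decide +kernel

theorem exists_inv (β : Bool) : ∀ x : Vec × Bool, ∃ y, mul5 β y x = (zero, false) ∧ mul5 β x y = (zero, false) := by
  cases β <;> decide +kernel

theorem decomp : ∀ x : Vec, x = lin ev ea eb x := by decide +kernel

theorem act_one (β : Bool) : ∀ x, act β cone x = x := by cases β <;> decide +kernel

theorem act_mul (β : Bool) : ∀ c d x, act β c (act β d x) = act β (cmul c d) x := by cases β <;> decide +kernel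

theorem act_cinv (β : Bool) : ∀ c x, act β c (act β (cinv c) x) = x ∧ act β (cinv c) (act β c x) = x := by
  cases β <;> decide +kernel

theorem act_q (β : Bool) : ∀ c x, q β (act β c x) = q β x := by cases β <;> decide +kernel

theorem act_bil (β : Bool) : ∀ c x y, bil β (act β c x) (act β c y) = bil β x y := by cases β <;> decide +kernel

theorem act_gen (β : Bool) : ∀ c, act β c eu = eu ∧ act β c ev = imV β c ∧ act β c ea = imA c ∧ act β c eb = imB c := by
  cases β <;> decide +kernel

/-- The stabiliser of `u` and of the class of `a`. -/
theorem stab (β : Bool) : ∀ v' b' : Vec, ∀ α : Bool, q β v' = false → q β b' = β → bil β v' eu = true →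
    bil β b' eu = false → bil β (α, false, true, false) v' = false → bil β b' v' = false →
    bil β b' (α, false, true, false) = true →
    v' = imV β (b'.2.2.1, α, b'.1) ∧ b' = imB (b'.2.2.1, α, b'.1) := by
  cases β <;> decide +kernel

/-- The pairs of a singular and a nonsingular vector, not orthogonal. -/
def Omega (β : Bool) : Type := {p : Vec × Vec // q β p.1 = false ∧ q β p.2 = true ∧ bil β p.1 p.2 = true}

instance (β : Bool) : DecidableEq (Omega β) := by unfold Omega; infer_instance
instance (β : Bool) : Fintype (Omega β) := by unfold Omega; infer_instance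

/-- The permutation of the pairs given by a code. -/
def omegaPerm (β : Bool) (c : Code) : Equiv.Perm (Omega β) where
  toFun p := ⟨(act β c p.1.1, act β c p.1.2), by rw [act_q, act_q, act_bil]; exact p.2⟩
  invFun p := ⟨(act β (cinv c) p.1.1, act β (cinv c) p.1.2), by rw [act_q, act_q, act_bil]; exact p.2⟩
  left_inv p := Subtype.ext (Prod.ext (act_cinv β c _).2 (act_cinv β c _).2)
  right_inv p := Subtype.ext (Prod.ext (act_cinv β c _).1 (act_cinv β c _).1)

theorem sign_omega (β : Bool) : ∀ c : Code,
    Equiv.Perm.sign (omegaPerm β c) = if c.1 = true then -1 else 1 := by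
  cases β <;> decide +kernel

/-- A singular vector orthogonal to `u` fixed by an odd code is in the span of `u`. -/
theorem odd_fix (β : Bool) : ∀ c x, c.1 = true → x.2.1 = false → q β x = false → act β c x = x →
    x = zero ∨ x = eu := by
  cases β <;> decide +kernel

/-- A singular vector orthogonal to `u` and its image under an odd code differ by a nonsingular vector. -/
theorem odd_move (β : Bool) : ∀ c x, c.1 = true → x.2.1 = false → q β x = false →
    x = zero ∨ x = eu ∨ q β (add x (act β c x)) = true := by
  cases β <;> decide +kernel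

/-- The vectors orthogonal to `u` fixed by a nontrivial code fixing `a`. -/
theorem fix_perp (β : Bool) : ∀ c x, c.2.1 = false → c ≠ cone → x.2.1 = false → act β c x = x →
    x = zero ∨ x = eu ∨ x = ea ∨ x = add eu ea := by
  cases β <;> decide +kernel

/-- A nontrivial code fixing `a` moves `v` or `b` by a class of `a`. -/
theorem witness (β : Bool) : ∀ c, c.2.1 = false → c ≠ cone → ∃ x, add x (act β c x) = ea ∨
    add x (act β c x) = add eu ea := by
  cases β <;> decide +kernel

/-- An odd code fixing `a` fixes a vector not orthogonal to `u`. -/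
theorem exists_fix_skew (β : Bool) : ∀ c, c.1 = true → c.2.1 = false → ∃ x, x.2.1 = true ∧ act β c x = x := by
  cases β <;> decide +kernel

/-- The fixed singular vectors of an odd code fixing `a` are pairwise non-orthogonal. -/
theorem fix_singular (β : Bool) : ∀ c x y, c.1 = true → c.2.1 = false → act β c x = x → act β c y = y →
    q β x = false → q β y = false → bil β x y = false → x = zero ∨ y = zero ∨ x = y := by
  cases β <;> decide +kernel

/-- The common fixed singular vectors of an odd and the central even code. -/
theorem fix_both (β : Bool) : ∀ x, act β (false, false, true) x = x → q β x = false → x = zero ∨ x = eu := by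
  cases β <;> decide +kernel

/-- With only even codes, the centraliser of `v` acts trivially. -/
theorem fix_v (β : Bool) : ∀ c, c.1 = false → act β c ev = ev → c = cone := by
  cases β <;> decide +kernel

/-- The singular vectors orthogonal to `v` in the anisotropic case. -/
theorem perp_v : ∀ x, bil true x ev = false → q true x = false → x = zero ∨ x = ev := by decide +kernel

theorem cmul_facts : ∀ c d : Code,
    (cmul c d).1 = (c.1 ^^ d.1) ∧
    (c.1 = true → cmul c c = cone → c.2.1 = false) ∧
    (cmul c d = cmul d c → c.1 = true → d.1 = false → d.2.1 = false) ∧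
    (cmul c d = cmul d c → c.1 = true → c.2.1 = false → d.2.1 = false) ∧
    (c.1 = true → d.1 = false → d.2.1 = true → cmul (cmul c d) (cinv (cmul d c)) = (false, false, true)) ∧
    (c.2.1 = false → d.2.1 = false → (cmul c d).2.1 = false) ∧
    (cmul c (cinv d) = cone ↔ c = d) := by
  decide +kernel

theorem coc_comm (β : Bool) : ∀ x y : Vec × Bool, mul5 β x y = mul5 β (mul5 β y x) (zero, bil β x.1 y.1) := by
  cases β <;> decide +kernel

theorem code_of_act (β : Bool) : ∀ c : Code, ((act β c eb).2.2.1, (act β c ea).1, (act β c eb).1) = c := by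
  cases β <;> decide +kernel

theorem exists_pattern (β : Bool) : ∀ pu pv pa pb : Bool, ∃ x, bil β x eu = pu ∧ bil β x ev = pv ∧
    bil β x ea = pa ∧ bil β x eb = pb := by
  cases β <;> decide +kernel

theorem q_gen (β : Bool) : q β eu = false ∧ q β ev = false ∧ q β ea = true ∧ q β eb = β ∧ bil β ev eu = true ∧
    bil β eb eu = false ∧ bil β ea ev = false ∧ bil β eb ev = false ∧ bil β eb ea = true := by
  cases β <;> decide +kernel

theorem mul5_eq_zero (β : Bool) : ∀ x y, mul5 β x y = (zero, false) → x = inv5 β y := by
  cases β <;> decide +kernel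

theorem bil_nondeg (β : Bool) : ∀ x, bil β x eu = false → bil β x ev = false → bil β x ea = false →
    bil β x eb = false → x = zero := by
  cases β <;> decide +kernel

theorem bil_self (β : Bool) : ∀ x, bil β x x = false := by cases β <;> decide +kernel

theorem bil_eu (β : Bool) : ∀ x, bil β x eu = x.2.1 := by cases β <;> decide +kernel

end CfsgLib.NoEightConstrained.Extra
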