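/-
Choice of the generators of an extraspecial core.

Blueprint: `blueprint/S3272.md`, part P5'.
-/
import Cfsg.Agent.Lib.NoEightConstrained.ShapeCases

set_option autoImplicit false
set_option linter.style.haveILetI false

namespace CfsgLib.NoEightConstrained

open Subgroup

variable {G : Type*} [Group G] [Finite G]

/-- `g` or `1`. -/
def pw (i : Bool) (g : G) : G := cond i g 1

namespace Ctx2

variable (c : Ctx2 G)

/-- The extraspecial core with `a` of square `z` fixed modulo `U`. -/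
structure ExtraFrame (Q : Subgroup G) (v a b : G) (β : Bool) : Prop where
  core : c.Core c.z Q
  shape : c.ExtraShape Q v a b
  a_sq : a * a = c.z
  b_sq : b * b = pw β c.z
  fix : ∀ s ∈ (c.S : Subgroup G), a⁻¹ * (s * a * s⁻¹) ∈ c.U

variable {c} {Q : Subgroup G} {v a b : G}

/-- A member of `U` commutes with `a` and `b`. -/
theorem ExtraShape.comm_U (h : c.ExtraShape Q v a b) (hQ : c.Core c.z Q) {w : G} (hw : w ∈ c.U) :
    w * a = a * w ∧ w * b = b * w := by
  have haS := hQ.le h.a_mem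
  have hbS := hQ.le h.b_mem
  rcases c.mem_U.1 hw with rfl | rfl | rfl | rfl
  · simp
  · exact ⟨(c.z_central _ haS).symm, (c.z_central _ hbS).symm⟩
  · exact ⟨h.au.symm, h.bu.symm⟩
  · refine ⟨?_, ?_⟩
    · rw [mul_assoc, ← c.z_central _ haS, ← mul_assoc, ← h.au, mul_assoc]
    · rw [mul_assoc, ← c.z_central _ hbS, ← mul_assoc, ← h.bu, mul_assoc]

theorem ExtraShape.ba_ne (h : c.ExtraShape Q v a b) : b * a ≠ a * b := fun e => c.z_ne (by
  have h1 := h.ab
  rw [e, mul_inv_cancel_right] at h1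
  exact mul_eq_left.1 h1.symm)

theorem ExtraShape.ba (h : c.ExtraShape Q v a b) (hQ : c.Core c.z Q) : b * a = a * b * c.z := by
  rw [mul_inv_eq_iff_eq_mul.1 h.ab, mul_assoc, ← c.z_central _ (hQ.le h.b_mem), mul_assoc]

/-- The classes modulo `U`. -/
def cls (a b : G) : Fin 3 → G := ![a, b, a * b]

theorem ExtraShape.cls_mem (h : c.ExtraShape Q v a b) (i : Fin 3) :
    cls a b i ∈ Q ∧ cls a b i * c.u = c.u * cls a b i := by
  fin_cases i
  · exact ⟨h.a_mem, h.au⟩
  · exact ⟨h.b_mem, h.bu⟩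
  · exact ⟨mul_mem h.a_mem h.b_mem, (Commute.mul_left (show Commute a c.u from h.au) h.bu).eq⟩

theorem ExtraShape.cls_notMem (h : c.ExtraShape Q v a b) (hQ : c.Core c.z Q) (i : Fin 3) : cls a b i ∉ c.U := by
  intro hi
  have hc := h.comm_U hQ hi
  fin_cases i
  · exact h.ba_ne hc.2.symm
  · exact h.ba_ne hc.1
  · refine h.ba_ne ?_
    have h2 : a * b * b = b * (a * b) := hc.2
    rw [← mul_assoc] at h2
    exact (mul_right_cancel h2).symm

theorem ExtraShape.cls_unique (h : c.ExtraShape Q v a b) (hQ : c.Core c.z Q) {i j : Fin 3} {x : G}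
    (hi : (cls a b i)⁻¹ * x ∈ c.U) (hj : (cls a b j)⁻¹ * x ∈ c.U) : i = j := by
  have key : ∀ {w : G}, w ∈ c.U → ¬ (b = a * w ∨ a * b = a * w ∨ a * b = b * w) := by
    intro w hw hcase
    obtain ⟨hwa, hwb⟩ := h.comm_U hQ hw
    rcases hcase with e | e | e
    · exact h.ba_ne (by rw [e, mul_assoc, hwa])
    · exact h.ba_ne (by rw [mul_left_cancel e, hwa])
    · refine h.ba_ne ?_
      have h2 : a * b * b = b * (a * b) := by rw [e, mul_assoc, hwb]
      rw [← mul_assoc] at h2
      exact (mul_right_cancel h2).symm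
  have hij : (cls a b i)⁻¹ * cls a b j ∈ c.U := by
    have := mul_mem hi (inv_mem hj)
    rwa [mul_inv_rev, inv_inv, mul_assoc, mul_inv_cancel_left] at this
  have hji : (cls a b j)⁻¹ * cls a b i ∈ c.U := by
    have := mul_mem hj (inv_mem hi)
    rwa [mul_inv_rev, inv_inv, mul_assoc, mul_inv_cancel_left] at this
  fin_cases i <;> fin_cases j <;>
    first
      | rfl
      | exact absurd (Or.inl (mul_inv_cancel_left a b).symm) (key (show a⁻¹ * b ∈ c.U from hij))
      | exact absurd (Or.inl (mul_inv_cancel_left a b).symm) (key (show a⁻¹ * b ∈ c.U from hji))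
      | exact absurd (Or.inr (Or.inl (mul_inv_cancel_left a (a * b)).symm)) (key (show a⁻¹ * (a * b) ∈ c.U from hij))
      | exact absurd (Or.inr (Or.inl (mul_inv_cancel_left a (a * b)).symm)) (key (show a⁻¹ * (a * b) ∈ c.U from hji))
      | exact absurd (Or.inr (Or.inr (mul_inv_cancel_left b (a * b)).symm)) (key (show b⁻¹ * (a * b) ∈ c.U from hij))
      | exact absurd (Or.inr (Or.inr (mul_inv_cancel_left b (a * b)).symm)) (key (show b⁻¹ * (a * b) ∈ c.U from hji))

theorem ExtraShape.exists_cls (h : c.ExtraShape Q v a b) (hQ : c.Core c.z Q) {x : G} (hx : x ∈ Q)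
    (hxu : x * c.u = c.u * x) : x ∈ c.U ∨ ∃ i, (cls a b i)⁻¹ * x ∈ c.U := by
  obtain ⟨w, w', hw, hw', he⟩ := h.dec x hx
  set e := w' * (w * x) with he'
  have heU : e ∈ c.U := by rcases he with e1 | e1 <;> rw [e1]; exacts [one_mem _, c.z_mem]
  have hw'u : w' * c.u = c.u * w' := by
    rcases hw' with rfl | rfl | rfl | rfl
    · simp
    · exact h.au
    · exact h.bu
    · exact (Commute.mul_left (show Commute a c.u from h.au) h.bu).eq
  have hwx : w = w'⁻¹ * e * x⁻¹ := by rw [he']; group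
  have hwu : w * c.u = c.u * w := by
    rw [hwx]
    exact (((show Commute w' c.u from hw'u).inv_left.mul_left (c.U_comm heU c.u_mem)).mul_left
      (show Commute x c.u from hxu).inv_left).eq
  have hwU : w ∈ c.U := by
    rcases hw with rfl | rfl | rfl | rfl
    · exact one_mem _
    · exact c.u_mem
    all_goals
      exfalso
      refine c.uz_ne_u ?_
      rw [← h.vu]
    · rw [hwu, mul_inv_cancel_right]
    · rw [mul_assoc] at hwu
      rw [mul_left_cancel hwu, mul_inv_cancel_right]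
  have hx' : x = w⁻¹ * w'⁻¹ * e := by rw [he']; group
  have hcl : ∀ {t : G}, (∃ i, t = cls a b i) → (t * t = 1 ∨ t * t = c.z) →
      t * w = w * t → x = w⁻¹ * t⁻¹ * e → ∃ i, (cls a b i)⁻¹ * x ∈ c.U := by
    rintro t ⟨i, rfl⟩ hsq hcw hx''
    refine ⟨i, ?_⟩
    obtain ⟨d, hd, hti⟩ : ∃ d ∈ c.U, (cls a b i)⁻¹ = cls a b i * d := by
      refine ⟨(cls a b i * cls a b i)⁻¹, ?_, by group⟩
      rcases hsq with e1 | e1 <;> rw [e1]
      exacts [by simp, inv_mem c.z_mem]
    have hcw' : Commute (cls a b i) w⁻¹ := (show Commute (cls a b i) w from hcw).inv_right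
    rw [hx'', hti, show cls a b i * d = (cls a b i)⁻¹ from hti.symm,
      show (cls a b i)⁻¹ * (w⁻¹ * (cls a b i)⁻¹ * e) = (cls a b i)⁻¹ * w⁻¹ * (cls a b i)⁻¹ * e by group,
      hcw'.inv_left.eq, show w⁻¹ * (cls a b i)⁻¹ * (cls a b i)⁻¹ = w⁻¹ * (cls a b i * cls a b i)⁻¹ by group]
    refine mul_mem (mul_mem (inv_mem hwU) (inv_mem ?_)) heU
    rcases hsq with e1 | e1 <;> rw [e1]
    exacts [one_mem _, c.z_mem]
  rcases hw' with e1 | e1 | e1 | e1
  · left
    rw [hx', e1]
    simpa using mul_mem (inv_mem hwU) heU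
  · right
    exact hcl ⟨0, e1⟩ (e1 ▸ h.a_sq) (e1 ▸ (h.comm_U hQ hwU).1.symm) hx'
  · right
    exact hcl ⟨1, e1⟩ (e1 ▸ h.b_sq) (e1 ▸ (h.comm_U hQ hwU).2.symm) hx'
  · right
    refine hcl ⟨2, e1⟩ ?_ ?_ hx'
    · rw [e1, show a * b * (a * b) = a * (b * a) * b by group, h.ba hQ,
        show a * (a * b * c.z) * b = a * a * (b * (c.z * b)) by group, ← c.z_central _ (hQ.le h.b_mem), ← mul_assoc b]
      exact mul_mem_pair c.zz h.a_sq (mul_mem_pair c.zz h.b_sq (Or.inr rfl))
    · rw [e1]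
      exact (Commute.mul_left (show Commute a w from (h.comm_U hQ hwU).1.symm) (h.comm_U hQ hwU).2.symm).eq

/-- Some class with square `z` is fixed by the Sylow subgroup. -/
theorem ExtraShape.exists_fixed (h : c.ExtraShape Q v a b) (hQ : c.Core c.z Q) :
    ∃ i, cls a b i * cls a b i = c.z ∧ ∀ s ∈ (c.S : Subgroup G), (cls a b i)⁻¹ * (s * cls a b i * s⁻¹) ∈ c.U := by
  classical
  haveI := Fact.mk Nat.prime_two
  have hconjU : ∀ {s : G}, s ∈ (c.S : Subgroup G) → ∀ {x : G}, x ∈ (c.S : Subgroup G) → x * c.u = c.u * x →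
      s * x * s⁻¹ * c.u = c.u * (s * x * s⁻¹) := fun hs _ hxS hx =>
    (c.mem_T_iff.1 (c.T_normal hs (c.mem_T_iff.2 ⟨hxS, hx⟩))).2
  have hact : ∀ (s : ↥(c.S : Subgroup G)) (i : Fin 3),
      ∃ j, (cls a b j)⁻¹ * ((s : G) * cls a b i * (s : G)⁻¹) ∈ c.U := by
    intro s i
    obtain ⟨hm, hmu⟩ := h.cls_mem i
    refine (h.exists_cls hQ (hQ.normal _ s.2 _ hm) (hconjU s.2 (hQ.le hm) hmu)).resolve_left fun hU => h.cls_notMem hQ i ?_
    have := c.U_normal _ (Subgroup.inv_mem _ s.2) _ hU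
    rwa [show (s : G)⁻¹ * ((s : G) * cls a b i * (s : G)⁻¹) * (s : G)⁻¹⁻¹ = cls a b i by group] at this
  choose f hf using hact
  letI act : MulAction ↥(c.S : Subgroup G) (Fin 3) :=
    { smul := f
      one_smul := fun i => h.cls_unique hQ (hf 1 i) (by simp)
      mul_smul := fun s t i => h.cls_unique hQ (hf (s * t) i) (by
        have h1 := hf s (f t i)
        have h2 := c.U_normal _ s.2 _ (hf t i)
        have := mul_mem h1 h2
        rw [Subgroup.coe_mul,
          show (s : G) * (t : G) * cls a b i * ((s : G) * (t : G))⁻¹ =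
            (s : G) * cls a b (f t i) * (s : G)⁻¹ *
              ((s : G) * ((cls a b (f t i))⁻¹ * ((t : G) * cls a b i * (t : G)⁻¹)) * (s : G)⁻¹) by group, ← mul_assoc]
        exact this) }
  have hsq : ∀ (s : ↥(c.S : Subgroup G)) (i : Fin 3), cls a b (f s i) * cls a b (f s i) = cls a b i * cls a b i := by
    intro s i
    obtain ⟨w, hw, e⟩ : ∃ w ∈ c.U, (s : G) * cls a b i * (s : G)⁻¹ = cls a b (f s i) * w :=
      ⟨_, hf s i, by group⟩
    obtain ⟨hm, hmu⟩ := h.cls_mem (f s i)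
    have hc := (c.mem_T.1 (c.mem_T_iff.2 ⟨hQ.le hm, hmu⟩)).2 w hw
    have hsq' : cls a b i * cls a b i = 1 ∨ cls a b i * cls a b i = c.z := by
      fin_cases i
      · exact h.a_sq
      · exact h.b_sq
      · show a * b * (a * b) = 1 ∨ a * b * (a * b) = c.z
        rw [show a * b * (a * b) = a * (b * a) * b by group, h.ba hQ,
          show a * (a * b * c.z) * b = a * a * (b * (c.z * b)) by group, ← c.z_central _ (hQ.le h.b_mem),
          ← mul_assoc b]
        exact mul_mem_pair c.zz h.a_sq (mul_mem_pair c.zz h.b_sq (Or.inr rfl))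
    calc cls a b (f s i) * cls a b (f s i) = cls a b (f s i) * (cls a b (f s i) * (w * w)) := by
          rw [c.U_sq w hw, mul_one]
      _ = cls a b (f s i) * (cls a b (f s i) * w) * w := by group
      _ = cls a b (f s i) * (w * cls a b (f s i)) * w := by rw [hc]
      _ = (s : G) * cls a b i * (s : G)⁻¹ * ((s : G) * cls a b i * (s : G)⁻¹) := by rw [e]; group
      _ = (s : G) * (cls a b i * cls a b i) * (s : G)⁻¹ := by group
      _ = cls a b i * cls a b i := by
        rcases hsq' with e' | e' <;> rw [e']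
        · simp
        · rw [c.z_central _ s.2, mul_inv_cancel_right]
  obtain ⟨i, hi⟩ := (c.S.2).nonempty_fixed_point_of_prime_not_dvd_card (α := Fin 3) (by simp)
  by_cases hiz : cls a b i * cls a b i = c.z
  · exact ⟨i, hiz, fun s hs => by
      have := hf ⟨s, hs⟩ i
      rwa [show f ⟨s, hs⟩ i = i from hi ⟨s, hs⟩] at this⟩
  -- the class of square `z` is unique
  have hab2 : cls a b 2 * cls a b 2 = a * a * (b * b) * c.z := by
    show a * b * (a * b) = _
    rw [show a * b * (a * b) = a * (b * a) * b by group, h.ba hQ,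
      show a * (a * b * c.z) * b = a * a * (b * (c.z * b)) by group, ← c.z_central _ (hQ.le h.b_mem)]
    group
  have hone : ∃ j, cls a b j * cls a b j = c.z ∧ ∀ k, cls a b k * cls a b k = c.z → k = j := by
    have hz := c.zz
    have hne := c.z_ne
    rcases h.a_sq with ea | ea <;> rcases h.b_sq with eb | eb <;> rw [ea, eb] at hab2
    · refine ⟨2, by simpa using hab2, fun k hk => ?_⟩
      fin_cases k
      · exact absurd (ea.symm.trans hk) hne.symm
      · exact absurd (eb.symm.trans hk) hne.symm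
      · rfl
    · refine ⟨1, eb, fun k hk => ?_⟩
      fin_cases k
      · exact absurd (ea.symm.trans hk) hne.symm
      · rfl
      · rw [one_mul, hz] at hab2
        exact absurd (hab2.symm.trans hk) hne.symm
    · refine ⟨0, ea, fun k hk => ?_⟩
      fin_cases k
      · rfl
      · exact absurd (eb.symm.trans hk) hne.symm
      · rw [mul_one, hz] at hab2
        exact absurd (hab2.symm.trans hk) hne.symm
    · exfalso
      rw [hz, one_mul] at hab2
      refine hiz ?_
      fin_cases i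
      exacts [ea, eb, hab2]
  obtain ⟨j, hj, huni⟩ := hone
  exact ⟨j, hj, fun s hs => by
    have := hf ⟨s, hs⟩ j
    rwa [huni _ ((hsq ⟨s, hs⟩ j).trans hj)] at this⟩

/-- The normalised frame. -/
theorem ExtraShape.exists_frame (h : c.ExtraShape Q v a b) (hQ : c.Core c.z Q) :
    ∃ a' b' β, c.ExtraFrame Q v a' b' β := by
  obtain ⟨i, hiz, hfix⟩ := h.exists_fixed hQ
  have hba := h.ba hQ
  have hbS := hQ.le h.b_mem
  have haS := hQ.le h.a_mem
  obtain ⟨a', b', ha', hb', hb2, hab, hau, hav, hbu, hbv, hgen, hdec, ei⟩ : ∃ a' b' : G, a' ∈ Q ∧ b' ∈ Q ∧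
      (b' * b' = 1 ∨ b' * b' = c.z) ∧ b' * a' * b'⁻¹ = a' * c.z ∧ a' * c.u = c.u * a' ∧ a' * v = v * a' ∧
      b' * c.u = c.u * b' ∧ b' * v = v * b' ∧
      (∀ x, x * a' = a' * x → x * b' = b' * x → x * a = a * x ∧ x * b = b * x) ∧
      (∀ w, (w = a ∨ w = b ∨ w = a * b) → ∃ w' d, (w' = a' ∨ w' = b' ∨ w' = a' * b') ∧ (d = 1 ∨ d = c.z) ∧
        w' = d * w) ∧ a' = cls a b i := by
    fin_cases i
    · exact ⟨a, b, h.a_mem, h.b_mem, h.b_sq, h.ab, h.au, h.av, h.bu, h.bv, fun x h1 h2 => ⟨h1, h2⟩,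
        fun w hw => ⟨w, 1, hw, Or.inl rfl, (one_mul w).symm⟩, rfl⟩
    · refine ⟨b, a, h.b_mem, h.a_mem, h.a_sq, ?_, h.bu, h.bv, h.au, h.av, fun x h1 h2 => ⟨h2, h1⟩, fun w hw => ?_,
        rfl⟩
      · rw [mul_inv_eq_iff_eq_mul, mul_assoc, ← c.z_central a haS, ← mul_assoc, hba, mul_assoc, c.zz, mul_one]
      · rcases hw with rfl | rfl | rfl
        · exact ⟨w, 1, Or.inr (Or.inl rfl), Or.inl rfl, (one_mul _).symm⟩
        · exact ⟨w, 1, Or.inl rfl, Or.inl rfl, (one_mul _).symm⟩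
        · exact ⟨b * a, c.z, Or.inr (Or.inr rfl), Or.inr rfl, by
            rw [hba, c.z_central _ (mul_mem haS hbS)]⟩
    · refine ⟨a * b, b, mul_mem h.a_mem h.b_mem, h.b_mem, h.b_sq, ?_, ?_, ?_, h.bu, h.bv, fun x h1 h2 => ?_,
        fun w hw => ?_, rfl⟩
      · rw [mul_inv_eq_iff_eq_mul, ← mul_assoc, hba, mul_assoc, ← c.z_central b hbS, ← mul_assoc]
      · exact (Commute.mul_left (show Commute a c.u from h.au) h.bu).eq
      · exact (Commute.mul_left (show Commute a v from h.av) h.bv).eq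
      · refine ⟨?_, h2⟩
        have := (show Commute x (a * b) from h1).mul_right (show Commute x b from h2).inv_right
        rw [mul_inv_cancel_right] at this
        exact this.eq
      · rcases hw with rfl | rfl | rfl
        · rcases h.b_sq with e | e
          · exact ⟨w * b * b, 1, Or.inr (Or.inr rfl), Or.inl rfl, by rw [mul_assoc, e]; group⟩
          · exact ⟨w * b * b, c.z, Or.inr (Or.inr rfl), Or.inr rfl, by
              rw [mul_assoc, e, c.z_central w haS]⟩
        · exact ⟨w, 1, Or.inr (Or.inl rfl), Or.inl rfl, (one_mul _).symm⟩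
        · exact ⟨a * b, 1, Or.inl rfl, Or.inl rfl, (one_mul _).symm⟩
  have ha2 : a' * a' = c.z := by rw [ei]; exact hiz
  have hfix' : ∀ s ∈ (c.S : Subgroup G), a'⁻¹ * (s * a' * s⁻¹) ∈ c.U := by rw [ei]; exact hfix
  obtain ⟨β, hβ⟩ : ∃ β, b' * b' = pw β c.z := by
    rcases hb2 with e | e
    exacts [⟨false, e⟩, ⟨true, e⟩]
  refine ⟨a', b', β, hQ, ⟨h.v_mem, ha', hb', h.v_sq, Or.inr ha2, hb2, h.vu, hab, hau, hav, hbu, hbv, ?_, ?_⟩,
    ha2, hβ, hfix'⟩
  · intro x hx h1 h2 h3 h4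
    obtain ⟨h5, h6⟩ := hgen x h3 h4
    exact h.self x hx h1 h2 h5 h6
  · intro x hx
    obtain ⟨w, w', hw, hw', he⟩ := h.dec x hx
    rcases hw' with hw1 | hw1
    · exact ⟨w, w', hw, Or.inl hw1, he⟩
    obtain ⟨w'', d, hw'', hd, e⟩ := hdec w' hw1
    refine ⟨w, w'', hw, Or.inr hw'', ?_⟩
    rw [e, mul_assoc]
    exact mul_mem_pair c.zz hd he

end Ctx2

end CfsgLib.NoEightConstrained
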