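/-
Coordinates and parity for an extraspecial core.

Blueprint: `blueprint/S3272.md`, part P5'.
-/
import Cfsg.Agent.Lib.NoEightConstrained.Extra.Norm
import Cfsg.Agent.Lib.NoEightConstrained.Extra.Model

set_option autoImplicit false
set_option linter.style.haveILetI false
set_option linter.unusedSectionVars false

namespace CfsgLib.NoEightConstrained

open Subgroup Extra

variable {G : Type*} [Group G] [Finite G]

theorem pw_xor {z : G} (hz : z * z = 1) (i j : Bool) : pw i z * pw j z = pw (i ^^ j) z := by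
  cases i <;> cases j <;> simp [pw, hz]

theorem pw_comm {g y : G} (h : g * y = y * g) (i : Bool) : pw i g * y = y * pw i g := by
  cases i <;> simp [pw, h]

theorem pw_inj {z : G} (hz : z ≠ 1) {i j : Bool} (h : pw i z = pw j z) : i = j := by
  cases i <;> cases j <;> first | rfl | exact absurd h hz | exact absurd h.symm hz

theorem pw_mul_pw {g z : G} {γ : Bool} (h : g * g = pw γ z) (i j : Bool) :
    pw i g * pw j g = pw (i ^^ j) g * pw (i && j && γ) z := by
  cases i <;> cases j <;> simp [pw, h]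

theorem pw_swap {x y z : G} (h : y * x = x * y * z) (i j : Bool) :
    pw j y * pw i x = pw i x * pw j y * pw (j && i) z := by
  cases i <;> cases j <;> simp [pw, h]

namespace Ctx2

variable (c : Ctx2 G)

/-- The standard representatives. -/
def rep (v a b : G) (x : Vec × Bool) : G :=
  pw x.1.1 c.u * pw x.1.2.1 v * pw x.1.2.2.1 a * pw x.1.2.2.2 b * pw x.2 c.z

/-- The coordinates. -/
noncomputable def vec (v a b g : G) : Vec := (Function.invFun (c.rep v a b) g).1

variable {c} {Q : Subgroup G} {v a b : G} {β : Bool}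

theorem zpw_comm {g : G} (hg : g ∈ (c.S : Subgroup G)) (i : Bool) : pw i c.z * g = g * pw i c.z :=
  pw_comm (c.z_central g hg).symm i

theorem pw_mem {K : Subgroup G} {g : G} (hg : g ∈ K) (i : Bool) : pw i g ∈ K := by
  cases i
  exacts [K.one_mem, hg]

namespace ExtraFrame

variable (F : c.ExtraFrame Q v a b β)
include F

theorem rep_mem (x : Vec × Bool) : c.rep v a b x ∈ Q :=
  mul_mem (mul_mem (mul_mem (mul_mem (pw_mem (c.u_mem_core F.core) _) (pw_mem F.shape.v_mem _))
    (pw_mem F.shape.a_mem _)) (pw_mem F.shape.b_mem _)) (pw_mem (c.z_mem_core F.core) _)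

theorem rep_mul (x y : Vec × Bool) : c.rep v a b x * c.rep v a b y = c.rep v a b (mul5 β x y) := by
  obtain ⟨⟨i, j, k, l⟩, m⟩ := x
  obtain ⟨⟨i', j', k', l'⟩, m'⟩ := y
  have hvS := F.core.le F.shape.v_mem
  have haS := F.core.le F.shape.a_mem
  have hbS := F.core.le F.shape.b_mem
  have huv : v * c.u = c.u * v * c.z := by
    rw [mul_inv_eq_iff_eq_mul.1 F.shape.vu, mul_assoc, ← c.z_central v hvS, mul_assoc]
  set Z := fun t => pw t c.z with hZ
  have hz : ∀ t, ∀ g ∈ (c.S : Subgroup G), Commute (Z t) g := fun t g hg => zpw_comm hg t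
  have hA : ∀ t, pw t c.u ∈ (c.S : Subgroup G) ∧ pw t v ∈ (c.S : Subgroup G) ∧ pw t a ∈ (c.S : Subgroup G) ∧
      pw t b ∈ (c.S : Subgroup G) := fun t => ⟨pw_mem c.uS t, pw_mem hvS t, pw_mem haS t, pw_mem hbS t⟩
  have c1 : Commute (pw k a * pw l b) (pw i' c.u * pw j' v) := by
    have h : ∀ {p w : G}, p * w = w * p → ∀ s t, Commute (pw s p) (pw t w) := fun {p w} h s t =>
      pw_comm (pw_comm h.symm t).symm s
    exact ((h F.shape.au k i').mul_left (h F.shape.bu l i')).mul_right ((h F.shape.av k j').mul_left (h F.shape.bv l j'))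
  have h1 : pw i c.u * pw j v * (pw i' c.u * pw j' v) = pw (i ^^ i') c.u * pw (j ^^ j') v * Z (j && i') := by
    calc pw i c.u * pw j v * (pw i' c.u * pw j' v) = pw i c.u * (pw j v * pw i' c.u) * pw j' v := by group
      _ = pw i c.u * pw i' c.u * (pw j v * (Z (j && i') * pw j' v)) := by
        rw [pw_swap huv]; simp only [hZ]; group
      _ = (pw i c.u * pw i' c.u) * (pw j v * pw j' v) * Z (j && i') := by rw [(hz _ _ (hA j').2.1).eq]; group
      _ = _ := by
        rw [pw_mul_pw (γ := false) (z := c.z) c.uu, pw_mul_pw (γ := false) (z := c.z) F.shape.v_sq]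
        simp [pw]
  have h2 : pw k a * pw l b * (pw k' a * pw l' b) =
      pw (k ^^ k') a * pw (l ^^ l') b * Z ((l && k') ^^ (k && k') ^^ (β && l && l')) := by
    calc pw k a * pw l b * (pw k' a * pw l' b) = pw k a * (pw l b * pw k' a) * pw l' b := by group
      _ = pw k a * pw k' a * (pw l b * (Z (l && k') * pw l' b)) := by
        rw [pw_swap (F.shape.ba F.core)]; simp only [hZ]; group
      _ = (pw k a * pw k' a) * (pw l b * pw l' b) * Z (l && k') := by rw [(hz _ _ (hA l').2.2.2).eq]; group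
      _ = pw (k ^^ k') a * (Z (k && k') * pw (l ^^ l') b) * (Z (l && l' && β) * Z (l && k')) := by
        rw [pw_mul_pw (γ := true) F.a_sq, pw_mul_pw F.b_sq]; simp only [hZ, Bool.and_true]; group
      _ = pw (k ^^ k') a * pw (l ^^ l') b * (Z (k && k') * (Z (l && l' && β) * Z (l && k'))) := by
        rw [(hz _ _ (hA _).2.2.2).eq]; group
      _ = _ := by
        simp only [hZ]
        rw [pw_xor c.zz, pw_xor c.zz]
        cases k <;> cases k' <;> cases l <;> cases l' <;> cases β <;> rfl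
  calc c.rep v a b ((i, j, k, l), m) * c.rep v a b ((i', j', k', l'), m')
      = pw i c.u * pw j v * (pw k a * pw l b) * (Z m * (pw i' c.u * pw j' v * (pw k' a * pw l' b))) * Z m' := by
        simp only [rep, hZ]; group
    _ = pw i c.u * pw j v * ((pw k a * pw l b) * (pw i' c.u * pw j' v)) * (pw k' a * pw l' b) * (Z m * Z m') := by
        rw [(hz m _ (mul_mem (mul_mem (hA i').1 (hA j').2.1) (mul_mem (hA k').2.2.1 (hA l').2.2.2))).eq]; group
    _ = pw i c.u * pw j v * (pw i' c.u * pw j' v) * ((pw k a * pw l b) * (pw k' a * pw l' b)) * (Z m * Z m') := by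
        rw [c1.eq]; group
    _ = pw (i ^^ i') c.u * pw (j ^^ j') v * (Z (j && i') * (pw (k ^^ k') a * pw (l ^^ l') b)) *
          (Z ((l && k') ^^ (k && k') ^^ (β && l && l')) * (Z m * Z m')) := by rw [h1, h2]; group
    _ = pw (i ^^ i') c.u * pw (j ^^ j') v * (pw (k ^^ k') a * pw (l ^^ l') b) *
          (Z (j && i') * (Z ((l && k') ^^ (k && k') ^^ (β && l && l')) * (Z m * Z m'))) := by
        rw [(hz _ _ (mul_mem (hA _).2.2.1 (hA _).2.2.2)).eq]; group
    _ = c.rep v a b (mul5 β ((i, j, k, l), m) ((i', j', k', l'), m')) := by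
        simp only [hZ, pw_xor c.zz, rep, mul5, add, coc]
        rw [show ((j && i') ^^ (((l && k') ^^ (k && k') ^^ (β && l && l')) ^^ (m ^^ m'))) =
          (m ^^ m' ^^ ((j && i') ^^ (l && k') ^^ (k && k') ^^ (β && l && l'))) by
          cases (j && i') <;> cases (l && k') <;> cases (k && k') <;> cases (β && l && l') <;> cases m <;> cases m' <;> rfl]
        group

theorem rep_zero (m : Bool) : c.rep v a b (zero, m) = pw m c.z := by simp [rep, zero, pw]

theorem rep_gen : c.rep v a b (eu, false) = c.u ∧ c.rep v a b (ev, false) = v ∧ c.rep v a b (ea, false) = a ∧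
    c.rep v a b (eb, false) = b := by simp [rep, eu, ev, ea, eb, pw]

theorem rep_comm (x y : Vec × Bool) :
    c.rep v a b x * c.rep v a b y = c.rep v a b y * c.rep v a b x * pw (bil β x.1 y.1) c.z := by
  rw [F.rep_mul, F.rep_mul, ← F.rep_zero, F.rep_mul, ← coc_comm]

theorem rep_inj : Function.Injective (c.rep v a b) := by
  have key : ∀ x, c.rep v a b x = 1 → x = (zero, false) := by
    intro x hx
    have hb : ∀ e : Vec, bil β x.1 e = false := fun e => by
      refine pw_inj c.z_ne ?_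
      have h := F.rep_comm x (e, false)
      rw [hx, one_mul, mul_one, left_eq_mul] at h
      rw [h]; rfl
    obtain ⟨x, m⟩ := x
    have hx0 : x = zero := bil_nondeg β x (hb eu) (hb ev) (hb ea) (hb eb)
    subst hx0
    rw [F.rep_zero] at hx
    exact Prod.ext rfl (pw_inj c.z_ne (j := false) hx)
  intro x y hxy
  obtain ⟨y', hy1, hy2⟩ := exists_inv β y
  have h1 := key (mul5 β x y') (by rw [← F.rep_mul, hxy, F.rep_mul, hy2, F.rep_zero]; rfl)
  rw [mul5_eq_zero β _ _ h1, mul5_eq_zero β _ _ hy2]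

theorem rep_surj {g : G} (hg : g ∈ Q) : ∃ x, c.rep v a b x = g := by
  obtain ⟨w, w', hw, hw', he⟩ := F.shape.dec g hg
  obtain ⟨gu, gv, ga, gb⟩ := F.rep_gen
  have h1 : c.rep v a b (zero, false) = 1 := F.rep_zero false
  obtain ⟨xw, rfl⟩ : ∃ x, c.rep v a b x = w := by
    rcases hw with rfl | rfl | rfl | rfl
    exacts [⟨_, h1⟩, ⟨_, gu⟩, ⟨_, gv⟩, ⟨mul5 β (eu, false) (ev, false), by rw [← F.rep_mul, gu, gv]⟩]
  obtain ⟨xw', rfl⟩ : ∃ x, c.rep v a b x = w' := by
    rcases hw' with rfl | rfl | rfl | rfl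
    exacts [⟨_, h1⟩, ⟨_, ga⟩, ⟨_, gb⟩, ⟨mul5 β (ea, false) (eb, false), by rw [← F.rep_mul, ga, gb]⟩]
  obtain ⟨xe, hxe⟩ : ∃ x, c.rep v a b x = c.rep v a b xw' * (c.rep v a b xw * g) := by
    rcases he with e | e <;> rw [e]
    exacts [⟨_, h1⟩, ⟨(zero, true), F.rep_zero true⟩]
  rw [← mul_assoc, F.rep_mul] at hxe
  obtain ⟨y, hy, -⟩ := exists_inv β (mul5 β xw' xw)
  refine ⟨mul5 β y xe, ?_⟩
  rw [← F.rep_mul, hxe, ← mul_assoc, F.rep_mul, hy, h1, one_mul]

theorem exists_coord {g : G} (hg : g ∈ Q) : ∃ m, c.rep v a b (c.vec v a b g, m) = g :=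
  ⟨_, Function.invFun_eq (F.rep_surj hg)⟩

theorem vec_rep (x : Vec × Bool) : c.vec v a b (c.rep v a b x) = x.1 :=
  congrArg Prod.fst (Function.leftInverse_invFun F.rep_inj x)

theorem vec_gen : c.vec v a b c.u = eu ∧ c.vec v a b v = ev ∧ c.vec v a b a = ea ∧ c.vec v a b b = eb ∧
    c.vec v a b c.z = zero ∧ c.vec v a b 1 = zero := by
  obtain ⟨gu, gv, ga, gb⟩ := F.rep_gen
  refine ⟨?_, ?_, ?_, ?_, ?_, ?_⟩
  · conv_lhs => rw [← gu, F.vec_rep]
  · conv_lhs => arg 5; rw [← gv]
    rw [F.vec_rep]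
  · conv_lhs => arg 5; rw [← ga]
    rw [F.vec_rep]
  · conv_lhs => arg 5; rw [← gb]
    rw [F.vec_rep]
  · rw [show c.z = c.rep v a b (zero, true) from (F.rep_zero true).symm, F.vec_rep]
  · rw [show (1 : G) = c.rep v a b (zero, false) from (F.rep_zero false).symm, F.vec_rep]

theorem vec_mul {g h : G} (hg : g ∈ Q) (hh : h ∈ Q) : c.vec v a b (g * h) = add (c.vec v a b g) (c.vec v a b h) := by
  obtain ⟨m, em⟩ := F.exists_coord hg
  obtain ⟨m', em'⟩ := F.exists_coord hh
  conv_lhs => rw [← em, ← em', F.rep_mul, F.vec_rep]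
  rfl

theorem vec_inv {g : G} (hg : g ∈ Q) : c.vec v a b g⁻¹ = c.vec v a b g := by
  have h := F.vec_mul (inv_mem hg) hg
  rw [inv_mul_cancel, F.vec_gen.2.2.2.2.2] at h
  exact add_eq_zero _ _ h.symm

theorem sq_eq {g : G} (hg : g ∈ Q) : g * g = pw (q β (c.vec v a b g)) c.z := by
  obtain ⟨m, em⟩ := F.exists_coord hg
  conv_lhs => rw [← em, F.rep_mul]
  simp [mul5, add_self, F.rep_zero, q]

theorem q_zero {g : G} (hg : g ∈ Q) (h2 : g * g = 1) : q β (c.vec v a b g) = false := by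
  refine pw_inj c.z_ne ?_
  rw [← F.sq_eq hg, h2]
  rfl

theorem comm_eq {g h : G} (hg : g ∈ Q) (hh : h ∈ Q) :
    g * h = h * g * pw (bil β (c.vec v a b g) (c.vec v a b h)) c.z := by
  obtain ⟨m, em⟩ := F.exists_coord hg
  obtain ⟨m', em'⟩ := F.exists_coord hh
  conv_lhs => rw [← em, ← em', F.rep_comm, em, em']

theorem bil_zero {g h : G} (hg : g ∈ Q) (hh : h ∈ Q) (e : g * h = h * g) :
    bil β (c.vec v a b g) (c.vec v a b h) = false := by
  have h' := F.comm_eq hg hh
  rw [e, left_eq_mul] at h'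
  exact pw_inj c.z_ne (j := false) h'

theorem perp_u {g : G} (hg : g ∈ Q) (e : g * c.u = c.u * g) : (c.vec v a b g).2.1 = false := by
  have h := F.bil_zero hg (c.u_mem_core F.core) e
  rwa [F.vec_gen.1, bil_eu] at h

theorem vec_eq {g h : G} (hg : g ∈ Q) (hh : h ∈ Q) (e : c.vec v a b g = c.vec v a b h) :
    g = h ∨ g = h * c.z := by
  obtain ⟨m, em⟩ := F.exists_coord hg
  obtain ⟨m', em'⟩ := F.exists_coord hh
  rw [← em, ← em', e]
  have hz : ∀ t, c.rep v a b (c.vec v a b h, false) * pw t c.z = c.rep v a b (c.vec v a b h, t) := fun t => by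
    simp [rep, pw]
  rw [← hz m, ← hz m']
  cases m <;> cases m' <;> simp [pw, mul_assoc, c.zz]

/-- An element of the core with vector in `⟨u⟩` lies in `U`. -/
theorem mem_U_of_vec {g : G} (hg : g ∈ Q) (e : c.vec v a b g = zero ∨ c.vec v a b g = eu) : g ∈ c.U := by
  rcases e with e | e
  · rcases F.vec_eq hg (one_mem Q) (e.trans F.vec_gen.2.2.2.2.2.symm) with rfl | rfl
    exacts [one_mem _, mul_mem (one_mem _) c.z_mem]
  · rcases F.vec_eq hg (c.u_mem_core F.core) (e.trans F.vec_gen.1.symm) with rfl | rfl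
    exacts [c.u_mem, mul_mem c.u_mem c.z_mem]

theorem U_le : c.U ≤ Q := fun w hw => by
  rcases c.mem_U.1 hw with rfl | rfl | rfl | rfl
  exacts [one_mem _, c.z_mem_core F.core, c.u_mem_core F.core, mul_mem (c.u_mem_core F.core) (c.z_mem_core F.core)]

theorem vec_U {w : G} (hw : w ∈ c.U) : c.vec v a b w = zero ∨ c.vec v a b w = eu := by
  obtain ⟨gu, -, -, -, gz, g1⟩ := F.vec_gen
  rcases c.mem_U.1 hw with rfl | rfl | rfl | rfl
  exacts [Or.inl g1, Or.inl gz, Or.inr gu,
    Or.inr (by rw [F.vec_mul (c.u_mem_core F.core) (c.z_mem_core F.core), gu, gz, (vadd_zero _).1])]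

end ExtraFrame

/-- The action on coordinates. -/
noncomputable def sig (c : Ctx2 G) (v a b n : G) (x : Vec) : Vec :=
  c.vec v a b (n * c.rep v a b (x, false) * n⁻¹)

/-- The code of an element of the Sylow subgroup. -/
noncomputable def code (c : Ctx2 G) (v a b s : G) : Code :=
  ((c.sig v a b s eb).2.2.1, (c.sig v a b s ea).1, (c.sig v a b s eb).1)

namespace ExtraFrame

variable (F : c.ExtraFrame Q v a b β)
include F

theorem conj_mem {n : G} (hn : n ∈ c.Loc Q) {g : G} (hg : g ∈ Q) : n * g * n⁻¹ ∈ Q :=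
  (mem_normalizer_iff.1 hn.1 g).1 hg

theorem vec_conj {n : G} (hn : n ∈ c.Loc Q) {g : G} (hg : g ∈ Q) :
    c.vec v a b (n * g * n⁻¹) = c.sig v a b n (c.vec v a b g) := by
  obtain ⟨m, em⟩ := F.exists_coord hg
  have e : g = c.rep v a b (c.vec v a b g, false) * pw m c.z := by
    conv_lhs => rw [← em]
    simp [rep, pw]
  have hz : n * pw m c.z * n⁻¹ = pw m c.z := by
    cases m
    · simp [pw]
    · exact c.loc_z hn
  conv_lhs => rw [e, ← conj_mul, hz]
  rw [F.vec_mul (F.conj_mem hn (F.rep_mem _)) (pw_mem (c.z_mem_core F.core) _)]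
  rw [show c.vec v a b (pw m c.z) = zero by
    cases m
    exacts [F.vec_gen.2.2.2.2.2, F.vec_gen.2.2.2.2.1], (vadd_zero _).1]
  rfl

theorem sig_mul {n n' : G} (hn : n ∈ c.Loc Q) (hn' : n' ∈ c.Loc Q) (x : Vec) :
    c.sig v a b (n * n') x = c.sig v a b n (c.sig v a b n' x) := by
  have h := F.vec_conj hn (F.conj_mem hn' (F.rep_mem (x, false)))
  rw [sig, show n * n' * c.rep v a b (x, false) * (n * n')⁻¹ = n * (n' * c.rep v a b (x, false) * n'⁻¹) * n⁻¹ by group, h]
  rfl

theorem sig_one (x : Vec) : c.sig v a b 1 x = x := by simp [sig, F.vec_rep]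

theorem sig_add {n : G} (hn : n ∈ c.Loc Q) (x y : Vec) :
    c.sig v a b n (add x y) = add (c.sig v a b n x) (c.sig v a b n y) := by
  have h := F.vec_conj hn (mul_mem (F.rep_mem (x, false)) (F.rep_mem (y, false)))
  rw [F.vec_mul (F.rep_mem _) (F.rep_mem _), F.vec_rep, F.vec_rep, ← conj_mul,
    F.vec_mul (F.conj_mem hn (F.rep_mem _)) (F.conj_mem hn (F.rep_mem _))] at h
  exact h.symm

theorem sig_q {n : G} (hn : n ∈ c.Loc Q) (x : Vec) : q β (c.sig v a b n x) = q β x := by
  refine pw_inj c.z_ne ?_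
  have h := F.sq_eq (F.conj_mem hn (F.rep_mem (x, false)))
  rw [sig, ← h, show n * c.rep v a b (x, false) * n⁻¹ * (n * c.rep v a b (x, false) * n⁻¹) =
    n * (c.rep v a b (x, false) * c.rep v a b (x, false)) * n⁻¹ by group, F.sq_eq (F.rep_mem _), F.vec_rep]
  cases q β x
  · simp [pw]
  · exact c.loc_z hn

theorem sig_bil {n : G} (hn : n ∈ c.Loc Q) (x y : Vec) :
    bil β (c.sig v a b n x) (c.sig v a b n y) = bil β x y := by
  refine pw_inj c.z_ne ?_
  have h := F.comm_eq (F.conj_mem hn (F.rep_mem (x, false))) (F.conj_mem hn (F.rep_mem (y, false)))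
  have h' := congrArg (fun g => n * g * n⁻¹) (F.rep_comm (x, false) (y, false))
  simp only [← conj_mul] at h'
  rw [show n * pw (bil β x y) c.z * n⁻¹ = pw (bil β x y) c.z by
    cases bil β x y
    · simp [pw]
    · exact c.loc_z hn] at h'
  rw [h'] at h
  exact (mul_left_cancel h).symm

theorem sig_u {s : G} (hs : s ∈ (c.S : Subgroup G)) : c.sig v a b s eu = eu := by
  have h := F.vec_conj (c.S_le_loc F.core hs) (c.u_mem_core F.core)
  rw [F.vec_gen.1] at h
  rw [← h]
  by_cases hT : s ∈ c.T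
  · rw [(c.mem_T_iff.1 hT).2, mul_inv_cancel_right, F.vec_gen.1]
  · rw [c.conj_u hs hT, F.vec_mul (c.u_mem_core F.core) (c.z_mem_core F.core), F.vec_gen.1, F.vec_gen.2.2.2.2.1,
      (vadd_zero _).1]

theorem sig_a {s : G} (hs : s ∈ (c.S : Subgroup G)) : ∃ α, c.sig v a b s ea = (α, false, true, false) := by
  have h := F.vec_conj (c.S_le_loc F.core hs) F.shape.a_mem
  rw [F.vec_gen.2.2.1] at h
  have hw := F.vec_U (F.fix s hs)
  rw [F.vec_mul (inv_mem F.shape.a_mem) (F.conj_mem (c.S_le_loc F.core hs) F.shape.a_mem), F.vec_inv F.shape.a_mem,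
    F.vec_gen.2.2.1, h] at hw
  rcases hw with e | e
  · exact ⟨false, (add_eq_zero _ _ e).symm⟩
  · refine ⟨true, ?_⟩
    rw [← (vadd_zero (c.sig v a b s ea)).2, ← add_self ea, vadd_assoc, e]
    rfl

/-- The action of the Sylow subgroup is given by the code. -/
theorem sig_eq {s : G} (hs : s ∈ (c.S : Subgroup G)) (x : Vec) :
    c.sig v a b s x = act β (c.code v a b s) x := by
  have hL := c.S_le_loc F.core hs
  obtain ⟨α, hα⟩ := F.sig_a hs
  obtain ⟨q1, q2, q3, q4, b1, b2, b3, b4, b5⟩ := q_gen β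
  obtain ⟨hv', hb'⟩ := stab β (c.sig v a b s ev) (c.sig v a b s eb) α
    (by rw [F.sig_q hL, q2]) (by rw [F.sig_q hL, q4])
    (by have := F.sig_bil hL ev eu; rwa [F.sig_u hs, b1] at this)
    (by have := F.sig_bil hL eb eu; rwa [F.sig_u hs, b2] at this)
    (by rw [← hα, F.sig_bil hL, b3]) (by rw [F.sig_bil hL, b4]) (by rw [← hα, F.sig_bil hL, b5])
  have hcode : c.code v a b s = ((c.sig v a b s eb).2.2.1, α, (c.sig v a b s eb).1) := by simp [code, hα]
  have hz : c.sig v a b s zero = zero := by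
    have := F.sig_add hL zero zero
    rwa [add_self, add_self] at this
  have hc : ∀ (i : Bool) (e : Vec), c.sig v a b s (cond i e zero) = cond i (c.sig v a b s e) zero := fun i e => by
    cases i
    exacts [hz, rfl]
  conv_lhs => rw [decomp x, lin, F.sig_add hL, F.sig_add hL, F.sig_add hL, hc, hc, hc, hc, F.sig_u hs, hα, hv', hb']
  rw [hcode]
  rfl

theorem code_mul {s t : G} (hs : s ∈ (c.S : Subgroup G)) (ht : t ∈ (c.S : Subgroup G)) :
    c.code v a b (s * t) = cmul (c.code v a b s) (c.code v a b t) := by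
  have h : ∀ x, c.sig v a b (s * t) x = act β (cmul (c.code v a b s) (c.code v a b t)) x := fun x => by
    rw [F.sig_mul (c.S_le_loc F.core hs) (c.S_le_loc F.core ht), F.sig_eq hs, F.sig_eq ht, act_mul]
  rw [code, h, h, code_of_act]

theorem code_one : c.code v a b 1 = cone := by
  rw [code, F.sig_one, F.sig_one]
  rfl

theorem code_inv {s : G} (hs : s ∈ (c.S : Subgroup G)) : c.code v a b s⁻¹ = cinv (c.code v a b s) := by
  have h := F.code_mul (Subgroup.inv_mem _ hs) hs
  rw [inv_mul_cancel, F.code_one] at h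
  revert h
  generalize c.code v a b s⁻¹ = p
  generalize c.code v a b s = p'
  revert p p'
  decide +kernel

/-- The elements of code zero form the core. -/
theorem code_eq_cone {s : G} (hs : s ∈ (c.S : Subgroup G)) : c.code v a b s = cone ↔ s ∈ Q := by
  constructor
  · intro h
    have hL := c.S_le_loc F.core hs
    have hfix : ∀ {e : G}, e ∈ Q → ∃ p, s * e * s⁻¹ = e * pw p c.z := by
      intro e he
      have h1 : c.vec v a b (s * e * s⁻¹) = c.vec v a b e := by rw [F.vec_conj hL he, F.sig_eq hs, h, act_one]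
      rcases F.vec_eq (F.conj_mem hL he) he h1 with e1 | e1
      exacts [⟨false, by simp [pw, e1]⟩, ⟨true, e1⟩]
    obtain ⟨pu, eu'⟩ := hfix (c.u_mem_core F.core)
    obtain ⟨pv, ev'⟩ := hfix F.shape.v_mem
    obtain ⟨pa, ea'⟩ := hfix F.shape.a_mem
    obtain ⟨pb, eb'⟩ := hfix F.shape.b_mem
    obtain ⟨x, xu, xv, xa, xb⟩ := exists_pattern β pu pv pa pb
    set g := c.rep v a b (x, false) with hg
    have hgQ : g ∈ Q := F.rep_mem _
    have hgS := F.core.le hgQ
    have key : ∀ {e : G} {p : Bool}, e ∈ Q → s * e * s⁻¹ = e * pw p c.z → bil β x (c.vec v a b e) = p →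
        g * s * e = e * (g * s) := by
      intro e p he h1 h2
      have h3 := F.comm_eq hgQ he
      rw [show c.vec v a b g = x from F.vec_rep _, h2] at h3
      refine mul_inv_eq_iff_eq_mul.1 ?_
      rw [show g * s * e * (g * s)⁻¹ = g * (s * e * s⁻¹) * g⁻¹ by group, h1,
        show g * (e * pw p c.z) * g⁻¹ = g * e * (pw p c.z * g⁻¹) by group, zpw_comm (Subgroup.inv_mem _ hgS) p, h3,
        show e * g * pw p c.z * (g⁻¹ * pw p c.z) = e * g * (pw p c.z * g⁻¹) * pw p c.z by group,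
        zpw_comm (Subgroup.inv_mem _ hgS) p,
        show e * g * (g⁻¹ * pw p c.z) * pw p c.z = e * (pw p c.z * pw p c.z) by group, pw_xor c.zz]
      simp [pw]
    obtain ⟨gu, gv, ga, gb, -, -⟩ := F.vec_gen
    have hgs := F.shape.self (g * s) (Subgroup.mul_mem _ hgS hs) (key (c.u_mem_core F.core) eu' (by rw [gu]; exact xu))
      (key F.shape.v_mem ev' (by rw [gv]; exact xv)) (key F.shape.a_mem ea' (by rw [ga]; exact xa))
      (key F.shape.b_mem eb' (by rw [gb]; exact xb))
    have hmem : g * s ∈ Q := by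
      rcases hgs with e | e <;> rw [e]
      exacts [one_mem _, c.z_mem_core F.core]
    have := mul_mem (inv_mem hgQ) hmem
    rwa [inv_mul_cancel_left] at this
  · intro hsQ
    have h : ∀ x, c.sig v a b s x = x := fun x => by
      have h1 := F.vec_mul (mul_mem hsQ (F.rep_mem (x, false))) (inv_mem hsQ)
      rw [F.vec_mul hsQ (F.rep_mem _), F.vec_inv hsQ, F.vec_rep, vadd_comm (c.vec v a b s), vadd_assoc, add_self,
        (vadd_zero _).1] at h1
      show c.sig v a b s x = x
      exact h1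
    rw [code, h, h]
    rfl

theorem code_eq_iff {s t : G} (hs : s ∈ (c.S : Subgroup G)) (ht : t ∈ (c.S : Subgroup G)) :
    c.code v a b s = c.code v a b t ↔ s * t⁻¹ ∈ Q := by
  rw [← F.code_eq_cone (Subgroup.mul_mem _ hs (Subgroup.inv_mem _ ht)), F.code_mul hs (Subgroup.inv_mem _ ht),
    F.code_inv ht]
  exact ((cmul_facts _ _).2.2.2.2.2.2).symm

theorem code_comm {s t : G} (hs : s ∈ (c.S : Subgroup G)) (ht : t ∈ (c.S : Subgroup G)) (e : s * t = t * s) :
    cmul (c.code v a b s) (c.code v a b t) = cmul (c.code v a b t) (c.code v a b s) := by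
  rw [← F.code_mul hs ht, ← F.code_mul ht hs, e]

/-- The even part of the Sylow subgroup. -/
noncomputable def M : Subgroup G where
  carrier := {s | s ∈ (c.S : Subgroup G) ∧ (c.code v a b s).1 = false}
  one_mem' := ⟨one_mem _, by rw [F.code_one]; rfl⟩
  mul_mem' := by
    rintro s t ⟨hs, hs'⟩ ⟨ht, ht'⟩
    exact ⟨Subgroup.mul_mem _ hs ht, by rw [F.code_mul hs ht, (cmul_facts _ _).1, hs', ht']; rfl⟩
  inv_mem' := by
    rintro s ⟨hs, hs'⟩
    exact ⟨Subgroup.inv_mem _ hs, by rw [F.code_inv hs]; exact hs'⟩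

theorem mem_M {s : G} : s ∈ F.M ↔ s ∈ (c.S : Subgroup G) ∧ (c.code v a b s).1 = false := Iff.rfl

theorem M_le : F.M ≤ (c.S : Subgroup G) := fun _ h => h.1

theorem Q_le_M : Q ≤ F.M := fun g hg =>
  ⟨F.core.le hg, by rw [(F.code_eq_cone (F.core.le hg)).2 hg]; rfl⟩

theorem U_le_M : c.U ≤ F.M := F.U_le.trans F.Q_le_M

theorem M_index {w : G} (hw : w ∈ (c.S : Subgroup G)) (hodd : (c.code v a b w).1 = true) :
    F.M.relIndex (c.S : Subgroup G) = 2 := by
  rw [Subgroup.relIndex, Subgroup.index_eq_two_iff]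
  refine ⟨⟨w, hw⟩, fun s => ?_⟩
  show (s : G) * w ∈ F.M ∧ ¬ (s : G) ∈ F.M ∨ (s : G) ∈ F.M ∧ ¬ (s : G) * w ∈ F.M
  have h : (c.code v a b ((s : G) * w)).1 = !(c.code v a b (s : G)).1 := by
    rw [F.code_mul s.2 hw, (cmul_facts _ _).1, hodd, Bool.xor_true]
  simp only [mem_M, h, s.2, Subgroup.mul_mem _ s.2 hw, true_and]
  cases (c.code v a b (s : G)).1 <;> simp

/-- The permutation of the pairs induced by the local group. -/
noncomputable def omegaHom : ↥(c.Loc Q) →* Equiv.Perm (Omega β) where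
  toFun n :=
    { toFun := fun p => ⟨(c.sig v a b n p.1.1, c.sig v a b n p.1.2), by
        rw [F.sig_q n.2, F.sig_q n.2, F.sig_bil n.2]; exact p.2⟩
      invFun := fun p => ⟨(c.sig v a b (n : G)⁻¹ p.1.1, c.sig v a b (n : G)⁻¹ p.1.2), by
        rw [F.sig_q (inv_mem n.2), F.sig_q (inv_mem n.2), F.sig_bil (inv_mem n.2)]; exact p.2⟩
      left_inv := fun p => Subtype.ext (Prod.ext
        (by show c.sig v a b _ (c.sig v a b _ _) = _
            rw [← F.sig_mul (inv_mem n.2) n.2, inv_mul_cancel, F.sig_one])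
        (by show c.sig v a b _ (c.sig v a b _ _) = _
            rw [← F.sig_mul (inv_mem n.2) n.2, inv_mul_cancel, F.sig_one]))
      right_inv := fun p => Subtype.ext (Prod.ext
        (by show c.sig v a b _ (c.sig v a b _ _) = _
            rw [← F.sig_mul n.2 (inv_mem n.2), mul_inv_cancel, F.sig_one])
        (by show c.sig v a b _ (c.sig v a b _ _) = _
            rw [← F.sig_mul n.2 (inv_mem n.2), mul_inv_cancel, F.sig_one])) }
  map_one' := Equiv.ext fun p => Subtype.ext (Prod.ext (F.sig_one _) (F.sig_one _))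
  map_mul' n m := Equiv.ext fun p => Subtype.ext (Prod.ext (F.sig_mul n.2 m.2 _) (F.sig_mul n.2 m.2 _))

theorem sign_S {s : G} (hs : s ∈ (c.S : Subgroup G)) :
    Equiv.Perm.sign (F.omegaHom ⟨s, c.S_le_loc F.core hs⟩) = if (c.code v a b s).1 = true then -1 else 1 := by
  rw [← sign_omega β]
  exact congrArg _ (Equiv.ext fun p => Subtype.ext (Prod.ext (F.sig_eq hs _) (F.sig_eq hs _)))

/-- Fusion in the centraliser of `z` keeps the parity. -/
theorem parity_conj {g x : G} (hg : g * c.z = c.z * g) (hx : x ∈ (c.S : Subgroup G))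
    (hgx : g * x * g⁻¹ ∈ (c.S : Subgroup G)) :
    g * x * g⁻¹ ∈ F.M ↔ x ∈ F.M := by
  haveI := Fact.mk Nat.prime_two
  obtain ⟨o, n, e, hn, hnz, hoC, hoO⟩ := F.core.factorO g hg
  set O := Cfsg.pPrimeCore 2 ↥(centralizer ({c.z} : Set G)) with hO
  haveI hOn : O.Normal := by rw [hO]; exact Cfsg.pPrimeCore_normal 2 _
  have hnL : n ∈ c.Loc Q := ⟨hn, mem_centralizer_singleton_iff.2 hnz⟩
  set X : ↥(c.Loc Q) := ⟨x, c.S_le_loc F.core hx⟩ with hX
  set Y : ↥(c.Loc Q) := ⟨g * x * g⁻¹, c.S_le_loc F.core hgx⟩ with hY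
  set N : ↥(c.Loc Q) := ⟨n, hnL⟩ with hN
  set d := Y * (N * X * N⁻¹)⁻¹ with hd
  have hdO : (⟨(d : G), d.2.2⟩ : ↥(centralizer ({c.z} : Set G))) ∈ O := by
    set oC : ↥(centralizer ({c.z} : Set G)) := ⟨o, hoC⟩
    set y' : ↥(centralizer ({c.z} : Set G)) := ⟨((N * X * N⁻¹ : ↥(c.Loc Q)) : G), (N * X * N⁻¹).2.2⟩
    have heq : (⟨(d : G), d.2.2⟩ : ↥(centralizer ({c.z} : Set G))) = oC * (y' * oC⁻¹ * y'⁻¹) := by
      refine Subtype.ext ?_
      show g * x * g⁻¹ * (n * x * n⁻¹)⁻¹ = o * (n * x * n⁻¹ * o⁻¹ * (n * x * n⁻¹)⁻¹)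
      rw [e]; group
    rw [heq]
    exact mul_mem hoO (hOn.conj_mem _ (inv_mem hoO) _)
  have hodd : Odd (Nat.card ↥O) := Nat.coprime_two_right.1 (CfsgLib.card_pPrimeCore_coprime 2)
  have hd1 : d ^ Nat.card ↥O = 1 := by
    have h1 : (d : G) ^ Nat.card ↥O = 1 :=
      congrArg (fun w : ↥O => ((w : ↥(centralizer ({c.z} : Set G))) : G))
        (pow_card_eq_one' (x := (⟨_, hdO⟩ : ↥O)))
    exact Subtype.ext h1
  have hsd : Equiv.Perm.sign (F.omegaHom d) = 1 := by
    have h1 := congrArg (fun p => Equiv.Perm.sign (F.omegaHom p)) hd1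
    simp only [map_pow, map_one] at h1
    rcases Int.units_eq_one_or (Equiv.Perm.sign (F.omegaHom d)) with e1 | e1
    · exact e1
    · rw [e1, hodd.neg_one_pow] at h1
      exact absurd h1 (by decide)
  rw [hd, map_mul, map_mul, map_inv, map_mul, map_mul, map_inv, map_inv, map_mul, map_mul, map_inv,
    mul_comm (Equiv.Perm.sign (F.omegaHom N)), mul_inv_cancel_right, mul_inv_eq_one, hY, hX, F.sign_S hgx,
    F.sign_S hx] at hsd
  rw [F.mem_M, F.mem_M, and_iff_right hgx, and_iff_right hx]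
  revert hsd
  cases (c.code v a b (g * x * g⁻¹)).1 <;> cases (c.code v a b x).1 <;> simp

end ExtraFrame

end Ctx2

end CfsgLib.NoEightConstrained
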