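/-
Involutions over the core, the even part, and the elementary subgroups of order 16.

Blueprint: `blueprint/S3272.md`, part P5'.
-/
import Cfsg.Agent.Lib.NoEightConstrained.Extra.Frame

set_option autoImplicit false
set_option linter.style.haveILetI false
set_option linter.unusedSectionVars false

namespace CfsgLib.NoEightConstrained

open Subgroup Extra

variable {G : Type*} [Group G] [Finite G]

theorem Extra.cmul_cone : ∀ c d : Code, c.2.1 = false → d.2.1 = false → cmul c d = cone → c = d := by decide +kernel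

theorem Extra.code_zero_fix (β : Bool) : q β ea = true ∧ q β (add eu ea) = true := by cases β <;> decide +kernel

theorem Extra.even_code : ∀ c : Code, c.1 = false → c.2.1 = false → c = cone ∨ c = (false, false, true) := by
  decide +kernel

theorem Extra.odd_pair : ∀ c d : Code, c.1 = true → d.1 = true → c.2.1 = false → d.2.1 = false → c ≠ d →
    cmul c d = (false, false, true) := by
  decide +kernel

/-- A finite subgroup covered by `n` translates of a set with at most `k` members. -/
theorem card_le_translates {K : Subgroup G} {n k : ℕ} (r : Fin n → G) (L : Set G) (hL : Nat.card L ≤ k)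
    (h : ∀ x ∈ K, ∃ i, x * r i ∈ L) : Nat.card ↥K ≤ n * k := by
  choose f hf using h
  have hinj : Function.Injective (fun x : ↥K => ((f x x.2, ⟨_, hf x x.2⟩) : Fin n × L)) := by
    intro x y e
    have e1 := congrArg Prod.fst e
    have e2 := congrArg (fun p => (p.2 : G)) e
    simp only at e1 e2
    rw [e1] at e2
    exact Subtype.ext (mul_right_cancel e2)
  refine (Nat.card_le_card_of_injective _ hinj).trans ?_
  rw [Nat.card_prod, Nat.card_fin]
  exact Nat.mul_le_mul_left n hL

namespace Ctx2

variable {c : Ctx2 G} {Q : Subgroup G} {v a b : G} {β : Bool}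

namespace ExtraFrame

variable (F : c.ExtraFrame Q v a b β)
include F

/-- An involution of `T` over a nontrivial code fixing `a` moves `a` to `az`. -/
theorem conj_a {t : G} (ht : t ∈ c.T) (ht2 : t * t = 1) (hα : (c.code v a b t).2.1 = false)
    (hne : c.code v a b t ≠ cone) : t * a * t⁻¹ = a * c.z := by
  have htS := c.T_le ht
  have hL := c.S_le_loc F.core htS
  have h1 : c.vec v a b (t * a * t⁻¹) = c.vec v a b a := by
    rw [F.vec_conj hL F.shape.a_mem, F.vec_gen.2.2.1, F.sig_eq htS, (act_gen β _).2.2.1, imA, hα]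
    rfl
  refine (F.vec_eq (F.conj_mem hL F.shape.a_mem) F.shape.a_mem h1).resolve_left fun hfix => ?_
  obtain ⟨x, hx⟩ := witness β _ hα hne
  set g := c.rep v a b (x, false) with hg
  set k := g⁻¹ * (t * g * t⁻¹) with hk
  have hgQ : g ∈ Q := F.rep_mem _
  have hkQ : k ∈ Q := mul_mem (inv_mem hgQ) (F.conj_mem hL hgQ)
  have hvk : c.vec v a b k = ea ∨ c.vec v a b k = add eu ea := by
    rw [F.vec_mul (inv_mem hgQ) (F.conj_mem hL hgQ), F.vec_inv hgQ, F.vec_conj hL hgQ, F.sig_eq htS, F.vec_rep]
    exact hx
  have hw : a⁻¹ * k ∈ c.U := by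
    refine F.mem_U_of_vec (mul_mem (inv_mem F.shape.a_mem) hkQ) ?_
    rw [F.vec_mul (inv_mem F.shape.a_mem) hkQ, F.vec_inv F.shape.a_mem, F.vec_gen.2.2.1]
    rcases hvk with e | e <;> rw [e]
    exacts [Or.inl (add_self _), Or.inr (by decide +kernel)]
  have hkfix : t * k * t⁻¹ = k := by
    rw [show t * k * t⁻¹ = t * a * t⁻¹ * (t * (a⁻¹ * k) * t⁻¹) by group, hfix, (c.mem_T.1 ht).2 _ hw,
      mul_inv_cancel_right, mul_inv_cancel_left]
  have hkinv : t * k * t⁻¹ = k⁻¹ := by
    rw [hk, show t * (g⁻¹ * (t * g * t⁻¹)) * t⁻¹ = t * g⁻¹ * t * g * (t * t)⁻¹ by group, ht2,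
      show (g⁻¹ * (t * g * t⁻¹))⁻¹ = t * g⁻¹ * t⁻¹ * g by group, eq_inv_of_sq ht2]
    group
  have hk2 : k * k = 1 := by
    rw [hkfix] at hkinv
    nth_rewrite 2 [hkinv]
    exact mul_inv_cancel k
  have hq := F.q_zero hkQ hk2
  rcases hvk with e | e <;> rw [e] at hq
  · rw [(code_zero_fix β).1] at hq; exact absurd hq (by decide)
  · rw [(code_zero_fix β).2] at hq; exact absurd hq (by decide)

/-- There is no elementary four-group over the four `{r, r', rr'}` in `T`. -/
theorem no_four {s t : G} (hs : s ∈ c.T) (ht : t ∈ c.T) (hs2 : s * s = 1) (ht2 : t * t = 1) (hst : s * t = t * s)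
    (hsα : (c.code v a b s).2.1 = false) (htα : (c.code v a b t).2.1 = false) (hs1 : c.code v a b s ≠ cone)
    (ht1 : c.code v a b t ≠ cone) (hne : c.code v a b s ≠ c.code v a b t) : False := by
  have hc := F.code_mul (c.T_le hs) (c.T_le ht)
  have h3 := F.conj_a (mul_mem hs ht) (sq_mul_of_comm hs2 ht2 hst)
    (by rw [hc]; exact (cmul_facts _ _).2.2.2.2.2.1 hsα htα) (by
      rw [hc]; exact fun e => hne (cmul_cone _ _ hsα htα e))
  rw [show s * t * a * (s * t)⁻¹ = s * (t * a * t⁻¹) * s⁻¹ by group, F.conj_a ht ht2 htα ht1,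
    show s * (a * c.z) * s⁻¹ = s * a * s⁻¹ * (s * c.z * s⁻¹) by group, F.conj_a hs hs2 hsα hs1,
    c.z_central s (c.T_le hs), mul_inv_cancel_right, mul_assoc, c.zz, mul_one, left_eq_mul] at h3
  exact c.z_ne h3

/-- Two involutions of an abelian subgroup with an odd member have commuting codes. -/
theorem alpha_of_comm {s t : G} (hs : s ∈ (c.S : Subgroup G)) (ht : t ∈ (c.S : Subgroup G)) (hst : s * t = t * s)
    (hs2 : s * s = 1) (hodd : (c.code v a b s).1 = true) :
    (c.code v a b s).2.1 = false ∧ (c.code v a b t).2.1 = false := by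
  have h1 : (c.code v a b s).2.1 = false := (cmul_facts _ (c.code v a b t)).2.1 hodd (by
    rw [← F.code_mul hs hs, hs2, F.code_one])
  exact ⟨h1, (cmul_facts _ _).2.2.2.1 (F.code_comm hs ht hst) hodd h1⟩

/-- The Sylow subgroup is not even. -/
theorem exists_odd : ∃ w ∈ (c.S : Subgroup G), (c.code v a b w).1 = true := by
  by_contra hno
  push Not at hno
  have heven : ∀ s ∈ (c.S : Subgroup G), (c.code v a b s).1 = false := fun s hs => by simpa using hno s hs
  have hvS := F.core.le F.shape.v_mem
  obtain ⟨gu, gv, ga, gb, gz, g1⟩ := F.vec_gen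
  cases β
  · -- `U⟨b⟩` is normal and elementary of order eight
    let E : Subgroup G :=
      { carrier := {g | g ∈ Q ∧ (c.vec v a b g).2.1 = false ∧ (c.vec v a b g).2.2.1 = false}
        one_mem' := ⟨one_mem _, by rw [g1]; exact ⟨rfl, rfl⟩⟩
        mul_mem' := by
          rintro g g' ⟨hg, h1, h2⟩ ⟨hg', h1', h2'⟩
          refine ⟨mul_mem hg hg', ?_⟩
          rw [F.vec_mul hg hg']
          exact ⟨by simp [add, h1, h1'], by simp [add, h2, h2']⟩
        inv_mem' := by
          rintro g ⟨hg, h1, h2⟩
          exact ⟨inv_mem hg, by rw [F.vec_inv hg]; exact ⟨h1, h2⟩⟩ }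
    have hES : E ≤ (c.S : Subgroup G) := fun g hg => F.core.le hg.1
    have hsq : ∀ g ∈ E, g * g = 1 := by
      rintro g ⟨hg, h1, h2⟩
      have key : ∀ p : Vec, p.2.1 = false → p.2.2.1 = false → q false p = false := by decide +kernel
      rw [F.sq_eq hg, key _ h1 h2]
      rfl
    have hn : (E.subgroupOf (c.S : Subgroup G)).Normal := by
      refine ⟨fun x hx s => ?_⟩
      obtain ⟨hg, h1, h2⟩ := mem_subgroupOf.1 hx
      refine ⟨F.conj_mem (c.S_le_loc F.core s.2) hg, ?_⟩
      show (c.vec v a b ((s : G) * (x : G) * (s : G)⁻¹)).2.1 = false ∧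
        (c.vec v a b ((s : G) * (x : G) * (s : G)⁻¹)).2.2.1 = false
      rw [F.vec_conj (c.S_le_loc F.core s.2) hg, F.sig_eq s.2]
      have he := heven _ s.2
      revert h1 h2 he
      generalize c.vec v a b (x : G) = p
      generalize c.code v a b (s : G) = d
      revert p d
      decide +kernel
    have hle := c.noEight _ hn ⟨⟨fun x y => Subtype.ext (Subtype.ext (comm_of_sq hsq (mem_subgroupOf.1 x.2)
      (mem_subgroupOf.1 y.2)))⟩⟩ fun x hx => Subtype.ext (by
        show (x : G) ^ 2 = 1
        rw [pow_two]; exact hsq _ (mem_subgroupOf.1 hx))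
    rw [Nat.card_congr (subgroupOfEquivOfLe hES).toEquiv] at hle
    have hinj : Function.Injective (fun p : Bool × Bool × Bool =>
        (⟨c.rep v a b ((p.1, false, false, p.2.1), p.2.2), F.rep_mem _, by rw [F.vec_rep]; exact ⟨rfl, rfl⟩⟩ : ↥E)) := by
      intro p p' e
      have := F.rep_inj (congrArg Subtype.val e)
      simp only [Prod.mk.injEq, true_and] at this
      exact Prod.ext this.1.1 (Prod.ext this.1.2 this.2)
    have := Nat.card_le_card_of_injective _ hinj
    simp at this
    omega
  · -- only `⟨z, v⟩` commutes with `v`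
    have hvQ := F.shape.v_mem
    have hinv : ∀ x ∈ (c.S : Subgroup G), x * x = 1 → x * v = v * x → x = 1 ∨ x = c.z ∨ x = v ∨ x = v * c.z := by
      intro x hx hx2 hxv
      have hxQ : x ∈ Q := by
        refine (F.code_eq_cone hx).1 (fix_v true _ (heven x hx) ?_)
        rw [← F.sig_eq hx, ← gv, ← F.vec_conj (c.S_le_loc F.core hx) hvQ, hxv, mul_inv_cancel_right]
      have hb := F.bil_zero hxQ hvQ hxv
      rw [gv] at hb
      rcases perp_v _ hb (F.q_zero hxQ hx2) with e | e
      · rcases F.vec_eq hxQ (one_mem Q) (e.trans g1.symm) with h | h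
        · exact Or.inl h
        · exact Or.inr (Or.inl (by rw [h, one_mul]))
      · rcases F.vec_eq hxQ hvQ (e.trans gv.symm) with h | h
        · exact Or.inr (Or.inr (Or.inl h))
        · exact Or.inr (Or.inr (Or.inr h))
    have hzv : c.z * v = v * c.z := (c.z_central v hvS).symm
    have hvz2 : v * c.z * (v * c.z) = 1 := sq_mul_of_comm F.shape.v_sq c.zz hzv.symm
    let W : Subgroup ↥(c.S : Subgroup G) :=
      { carrier := {x | (x : G) * x = 1 ∧ (x : G) * v = v * x}
        one_mem' := by simp
        mul_mem' := by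
          rintro x y ⟨hx2, hxv⟩ ⟨hy2, hyv⟩
          have hxy : (x : G) * y = y * x := by
            rcases hinv _ x.2 hx2 hxv with e | e | e | e <;> rw [e]
            · simp
            · exact (c.z_central _ y.2).symm
            · exact hyv.symm
            · rw [mul_assoc, ← c.z_central _ y.2, ← mul_assoc, ← hyv, mul_assoc]
          exact ⟨sq_mul_of_comm hx2 hy2 hxy, (Commute.mul_left (show Commute (x : G) v from hxv) hyv).eq⟩
        inv_mem' := by
          rintro x ⟨hx2, hxv⟩
          refine ⟨?_, (show Commute (x : G) v from hxv).inv_left.eq⟩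
          show (x : G)⁻¹ * (x : G)⁻¹ = 1
          rw [← mul_inv_rev, hx2, inv_one] }
    have hW4 : Nat.card ↥W = 4 := by
      refine le_antisymm ?_ ?_
      · let S4 : Finset G := by classical exact {1, c.z, v, v * c.z}
        have hmem : ∀ x : ↥W, ((x : ↥(c.S : Subgroup G)) : G) ∈ S4 := fun x => by
          classical
          simpa [S4] using hinv _ (x : ↥(c.S : Subgroup G)).2 x.2.1 x.2.2
        have := Nat.card_le_card_of_injective (fun x : ↥W => (⟨_, hmem x⟩ : S4))
          fun x y e => Subtype.ext (Subtype.ext (congrArg (fun p : S4 => (p : G)) e))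
        refine this.trans ?_
        rw [Nat.card_eq_fintype_card, Fintype.card_coe]
        classical
        exact Finset.card_le_four
      · have hinj : Function.Injective (fun p : Bool × Bool =>
            (⟨⟨c.rep v a b ((false, p.1, false, false), p.2), F.core.le (F.rep_mem _)⟩, by
              cases p.1 <;> cases p.2 <;>
                simp [rep, pw, F.shape.v_sq, c.zz, hvz2, hzv, mul_assoc, W, ← mul_assoc v v]⟩ : ↥W)) := by
          intro p p' e
          have := F.rep_inj (congrArg (fun x : ↥W => ((x : ↥(c.S : Subgroup G)) : G)) e)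
          simp only [Prod.mk.injEq, true_and] at this
          exact Prod.ext this.1.1 this.2
        simpa using Nat.card_le_card_of_injective _ hinj
    have hklein : ∀ {A : Subgroup ↥(c.S : Subgroup G)}, Nat.card ↥A = 4 → (∀ x ∈ A, (x : G) * x = 1) →
        IsKleinFour A := fun {A} h4 h2 => by
      haveI : Nontrivial ↥A := Finite.one_lt_card_iff_nontrivial.1 (by rw [h4]; norm_num)
      exact ⟨h4, Monoid.exponent_eq_prime_iff Nat.prime_two |>.2 fun g hg => orderOf_eq_prime
        (Subtype.ext (Subtype.ext (by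
          show ((g : ↥(c.S : Subgroup G)) : G) ^ 2 = 1
          rw [pow_two]; exact h2 _ g.2))) hg⟩
    have hUW := c.conn W (c.U.subgroupOf (c.S : Subgroup G)) (hklein hW4 fun x hx => hx.1)
      (hklein (by rw [Nat.card_congr (subgroupOfEquivOfLe c.U_le).toEquiv, c.U_card])
        fun x hx => c.U_sq _ hx)
    have hstay : ∀ A, Relation.ReflTransGen
        (fun A B : Subgroup ↥(c.S : Subgroup G) => IsKleinFour A ∧ IsKleinFour B ∧ ∀ a ∈ A, ∀ b ∈ B, a * b = b * a)
        W A → A = W := by
      intro A h
      induction h with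
      | refl => rfl
      | @tail A B _ hAB ih =>
        subst ih
        obtain ⟨-, hB, hc⟩ := hAB
        refine eq_of_le_of_card_ge (fun x hx => ⟨?_, ?_⟩) (by rw [hW4, hB.card_four])
        · have h1 := IsKleinFour.mul_self (G := ↥B) ⟨x, hx⟩
          exact congrArg (fun y : ↥B => ((y : ↥(c.S : Subgroup G)) : G)) h1
        · exact (congrArg Subtype.val (hc ⟨v, hvS⟩ ⟨F.shape.v_sq, rfl⟩ x hx)).symm
    have hU := hstay _ hUW
    have hv : (⟨v, hvS⟩ : ↥(c.S : Subgroup G)) ∈ c.U.subgroupOf (c.S : Subgroup G) := by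
      rw [hU]; exact ⟨F.shape.v_sq, rfl⟩
    have := F.vec_U (show v ∈ c.U from hv)
    rw [gv] at this
    revert this
    decide +kernel

/-- Every elementary subgroup of order 16 is even. -/
theorem sixteen_le_M {K : Subgroup G} (hKS : K ≤ (c.S : Subgroup G)) (hK : ∀ x ∈ K, x * x = 1)
    (h16 : 16 ≤ Nat.card ↥K) : K ≤ F.M := by
  classical
  intro t₀ ht₀
  by_contra hnot
  have hodd : (c.code v a b t₀).1 = true := by
    simpa [F.mem_M, hKS ht₀] using hnot
  have hα : ∀ x ∈ K, (c.code v a b x).2.1 = false := fun x hx =>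
    (F.alpha_of_comm (hKS ht₀) (hKS hx) (comm_of_sq hK ht₀ hx) (hK _ ht₀) hodd).2
  have hne : c.code v a b t₀ ≠ cone := fun e => by rw [e] at hodd; exact absurd hodd (by decide)
  have hfix : ∀ {x y : G}, x ∈ K → y ∈ K → y ∈ Q → act β (c.code v a b x) (c.vec v a b y) = c.vec v a b y := by
    intro x y hx hy hyQ
    rw [← F.sig_eq (hKS hx), ← F.vec_conj (c.S_le_loc F.core (hKS hx)) hyQ, comm_of_sq hK hx hy, mul_inv_cancel_right]
  set L : Set G := {y | y ∈ K ∧ y ∈ Q} with hL
  have hmk : ∀ {x y : G}, x ∈ K → y ∈ K → c.code v a b x = c.code v a b y → x * y ∈ L := fun hx hy e => by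
    refine ⟨mul_mem hx hy, ?_⟩
    have := (F.code_eq_iff (hKS hx) (hKS hy)).1 e
    rwa [eq_inv_of_sq (hK _ hy)] at this
  by_cases hA : ∃ w ∈ K, c.code v a b w = (false, false, true)
  · obtain ⟨w, hw, hwc⟩ := hA
    by_cases hu : ∃ y ∈ L, c.vec v a b y = eu
    · obtain ⟨y, ⟨hyK, hyQ⟩, hyu⟩ := hu
      have hyU := F.mem_U_of_vec hyQ (Or.inr hyu)
      have hT : ∀ x ∈ K, x ∈ c.T := by
        intro x hx
        refine c.mem_T_iff.2 ⟨hKS hx, ?_⟩
        have hcy := comm_of_sq hK hx hyK
        rcases F.vec_eq hyQ (c.u_mem_core F.core) (hyu.trans F.vec_gen.1.symm) with e | e <;> rw [e] at hcy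
        · exact hcy
        · rw [← mul_assoc, mul_assoc c.u, ← c.z_central x (hKS hx), ← mul_assoc] at hcy
          exact mul_right_cancel hcy
      exact F.no_four (hT _ ht₀) (hT _ hw) (hK _ ht₀) (hK _ hw) (comm_of_sq hK ht₀ hw) (hα _ ht₀)
        (by rw [hwc]) hne (by rw [hwc]; decide) (fun e => by rw [e, hwc] at hodd; exact absurd hodd (by decide))
    · push Not at hu
      have hL2 : Nat.card L ≤ 2 := by
        have hinj : Function.Injective (fun y : L => (Function.invFun (c.rep v a b) (y : G)).2) := by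
          intro y y' e
          have hz : ∀ y : L, c.vec v a b (y : G) = zero := fun y =>
            (fix_both β _ (by rw [← hwc]; exact hfix hw y.2.1 y.2.2) (F.q_zero y.2.2 (hK _ y.2.1))).resolve_right
              (hu _ y.2)
          refine Subtype.ext ?_
          rw [← Function.invFun_eq (F.rep_surj y.2.2), ← Function.invFun_eq (F.rep_surj y'.2.2)]
          exact congrArg _ (Prod.ext ((hz y).trans (hz y').symm) e)
        simpa using Nat.card_le_card_of_injective _ hinj
      have h4 := card_le_translates ![1, w, t₀, w * t₀] L hL2 fun x hx => by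
        by_cases he : (c.code v a b x).1 = false
        · rcases even_code _ he (hα x hx) with e | e
          · exact ⟨0, hmk hx (one_mem K) (e.trans F.code_one.symm)⟩
          · exact ⟨1, hmk hx hw (e.trans hwc.symm)⟩
        · have he' : (c.code v a b x).1 = true := by simpa using he
          by_cases heq : c.code v a b x = c.code v a b t₀
          · exact ⟨2, hmk hx ht₀ heq⟩
          · refine ⟨3, hmk hx (mul_mem hw ht₀) ?_⟩
            show c.code v a b x = c.code v a b (w * t₀)
            rw [F.code_mul (hKS hw) (hKS ht₀), hwc]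
            revert he' heq hodd
            have h1 := hα x hx
            have h2 := hα _ ht₀
            revert h1 h2
            generalize c.code v a b x = p
            generalize c.code v a b t₀ = p'
            revert p p'
            decide +kernel
      omega
  · push Not at hA
    have hL4 : Nat.card L ≤ 4 := by
      obtain ⟨x₀, hx₀⟩ : ∃ x₀, ∀ y ∈ L, c.vec v a b y = zero ∨ c.vec v a b y = x₀ := by
        by_cases h : ∃ y ∈ L, c.vec v a b y ≠ zero
        · obtain ⟨y₀, ⟨hy₀K, hy₀Q⟩, hy₀⟩ := h
          refine ⟨c.vec v a b y₀, fun y hy => ?_⟩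
          rcases fix_singular β _ _ _ hodd (hα _ ht₀) (hfix ht₀ hy.1 hy.2) (hfix ht₀ hy₀K hy₀Q)
            (F.q_zero hy.2 (hK _ hy.1)) (F.q_zero hy₀Q (hK _ hy₀K))
            (F.bil_zero hy.2 hy₀Q (comm_of_sq hK hy.1 hy₀K)) with e | e | e
          exacts [Or.inl e, absurd e hy₀, Or.inr e]
        · push Not at h
          exact ⟨zero, fun y hy => Or.inl (h y hy)⟩
      have hinj : Function.Injective (fun y : L =>
          (decide (c.vec v a b (y : G) = zero), (Function.invFun (c.rep v a b) (y : G)).2)) := by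
        intro y y' e
        simp only [Prod.mk.injEq, decide_eq_decide] at e
        refine Subtype.ext ?_
        rw [← Function.invFun_eq (F.rep_surj y.2.2), ← Function.invFun_eq (F.rep_surj y'.2.2)]
        refine congrArg _ (Prod.ext ?_ e.2)
        show c.vec v a b (y : G) = c.vec v a b (y' : G)
        rcases hx₀ _ y.2 with h | h
        · rw [h, e.1.1 h]
        · rcases hx₀ _ y'.2 with h' | h'
          · rw [h', e.1.2 h']
          · rw [h, h']
      simpa using Nat.card_le_card_of_injective _ hinj
    have h2 := card_le_translates ![1, t₀] L hL4 fun x hx => by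
      by_cases he : (c.code v a b x).1 = false
      · rcases even_code _ he (hα x hx) with e | e
        · exact ⟨0, hmk hx (one_mem K) (e.trans F.code_one.symm)⟩
        · exact absurd e (hA x hx)
      · refine ⟨1, hmk hx ht₀ ?_⟩
        by_contra hne'
        refine hA _ (mul_mem hx ht₀) ?_
        rw [F.code_mul (hKS hx) (hKS ht₀)]
        exact odd_pair _ _ (by simpa using he) hodd (hα x hx) (hα _ ht₀) hne'
    omega

/-- A subgroup of order 16 in the even part meeting the core in `U` covers the four even codes. -/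
theorem code_onto {K : Subgroup G} (hKM : K ≤ F.M) (h16 : 16 ≤ Nat.card ↥K) (hKQ : ∀ x ∈ K, x ∈ Q → x ∈ c.U)
    (d : Code) (hd : d.1 = false) : ∃ x ∈ K, c.code v a b x = d := by
  classical
  by_contra hno
  push Not at hno
  have hS : ∀ {x : G}, x ∈ K → x ∈ (c.S : Subgroup G) := fun hx => (hKM hx).1
  have hbound : ∀ x : ↥K, ((c.code v a b (x : G)).2) ∈ ((Finset.univ : Finset (Bool × Bool)).erase d.2) := fun x => by
    simp only [Finset.mem_erase, Finset.mem_univ, and_true, ne_eq]
    exact fun e => hno x x.2 (Prod.ext ((hKM x.2).2.trans hd.symm) e)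
  let r : Bool × Bool → G := fun e => if h : ∃ x ∈ K, (c.code v a b x).2 = e then h.choose else 1
  have hr : ∀ x : ↥K, (x : G) * (r (c.code v a b (x : G)).2)⁻¹ ∈ c.U := fun x => by
    have h : ∃ y ∈ K, (c.code v a b y).2 = (c.code v a b (x : G)).2 := ⟨x, x.2, rfl⟩
    obtain ⟨h1, h2⟩ := h.choose_spec
    rw [show r _ = h.choose from dif_pos h]
    refine hKQ _ (mul_mem x.2 (inv_mem h1)) ((F.code_eq_iff (hS x.2) (hS h1)).1 ?_)
    exact Prod.ext ((hKM x.2).2.trans (hKM h1).2.symm) h2.symm
  have hinj : Function.Injective (fun x : ↥K =>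
      ((⟨_, hbound x⟩, ⟨_, hr x⟩) : ((Finset.univ : Finset (Bool × Bool)).erase d.2) × ↥c.U)) := by
    intro x y e
    have e1 := congrArg (fun p => (p.1 : Bool × Bool)) e
    have e2 := congrArg (fun p => (p.2 : G)) e
    simp only at e1 e2
    rw [e1] at e2
    exact Subtype.ext (mul_right_cancel e2)
  have := Nat.card_le_card_of_injective _ hinj
  rw [Nat.card_prod, Nat.card_eq_fintype_card (α := ↥((Finset.univ : Finset (Bool × Bool)).erase d.2)),
    Fintype.card_coe, Finset.card_erase_of_mem (Finset.mem_univ _),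
    c.U_card] at this
  simp at this
  omega

end ExtraFrame

end Ctx2

end CfsgLib.NoEightConstrained
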