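/-
The steps keep the parity.

Blueprint: `blueprint/S3272.md`, part P5'.
-/
import Cfsg.Agent.Lib.NoEightConstrained.Extra.Sixteen

set_option autoImplicit false
set_option linter.style.haveILetI false
set_option linter.unusedSectionVars false

namespace CfsgLib.NoEightConstrained

open Subgroup Extra

variable {G : Type*} [Group G] [Finite G]

theorem Extra.fix_wc (β : Bool) : ∀ x, act β (false, false, true) x = x →
    x = zero ∨ x = eu ∨ x = ea ∨ x = add eu ea := by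
  cases β <;> decide +kernel

/-- An element mapping a finite subgroup into itself maps it onto itself. -/
theorem conj_surj {H : Subgroup G} {g : G} (h : ∀ x ∈ H, g * x * g⁻¹ ∈ H) {x : G} (hx : x ∈ H) :
    g⁻¹ * x * g ∈ H := by
  have hle : H.map (MulAut.conj g).toMonoidHom ≤ H := by
    rintro _ ⟨y, hy, rfl⟩
    exact h y hy
  have heq := eq_of_le_of_card_ge hle (card_map_of_injective (MulEquiv.injective _)).ge
  rw [← heq] at hx
  obtain ⟨y, hy, rfl⟩ := hx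
  simpa [mul_assoc] using hy

theorem mem_normalizer_of_conj {H : Subgroup G} {g : G} (h : ∀ x ∈ H, g * x * g⁻¹ ∈ H) :
    g ∈ normalizer (H : Set G) :=
  mem_normalizer_iff.2 fun x => ⟨h x, fun hx => by simpa [mul_assoc] using conj_surj h hx⟩

namespace Ctx2

variable {c : Ctx2 G} {Q : Subgroup G} {v a b : G} {β : Bool}

/-- The centraliser of `u` in the core. -/
def coreT (c : Ctx2 G) (Q : Subgroup G) : Subgroup G := Q ⊓ c.T

namespace ExtraFrame

variable (F : c.ExtraFrame Q v a b β)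
include F

/-- Maps of the even part into itself keep the parity. -/
theorem iff_of_maps {H : Subgroup G} {n : G} (hn : n ∈ normalizer (H : Set G))
    (h : ∀ x ∈ H, x ∈ F.M → n * x * n⁻¹ ∈ F.M) {x : G} (hx : x ∈ H) : n * x * n⁻¹ ∈ F.M ↔ x ∈ F.M := by
  refine ⟨fun hm => ?_, h x hx⟩
  have h' : ∀ y ∈ H ⊓ F.M, n * y * n⁻¹ ∈ H ⊓ F.M := fun y hy =>
    ⟨(mem_normalizer_iff.1 hn y).1 hy.1, h y hy.1 hy.2⟩
  have := conj_surj h' (x := n * x * n⁻¹) ⟨(mem_normalizer_iff.1 hn x).1 hx, hm⟩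
  rw [show n⁻¹ * (n * x * n⁻¹) * n = x by group] at this
  exact this.2

/-- The moves of a parity preserving element. -/
theorem move_of_iff {x y : G} (hx : x ∈ (c.S : Subgroup G)) (hy : y ∈ (c.S : Subgroup G))
    (h : y ∈ F.M ↔ x ∈ F.M) : y * x⁻¹ ∈ F.M := by
  refine F.mem_M.2 ⟨Subgroup.mul_mem _ hy (Subgroup.inv_mem _ hx), ?_⟩
  rw [F.code_mul hy (Subgroup.inv_mem _ hx), (cmul_facts _ _).1, F.code_inv hx]
  simp only [F.mem_M, hx, hy, true_and] at h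
  show ((c.code v a b y).1 ^^ (c.code v a b x).1) = false
  revert h
  cases (c.code v a b y).1 <;> cases (c.code v a b x).1 <;> simp

/-- A member of the core commuting with an involution over a code fixing `a` in the `u`, `a` part lies in `U`. -/
theorem fixed_in_U {t g : G} (ht : t ∈ c.T) (ht2 : t * t = 1) (hα : (c.code v a b t).2.1 = false)
    (hne : c.code v a b t ≠ cone) (hg : g ∈ Q) (hgt : t * g = g * t)
    (hvec : c.vec v a b g = zero ∨ c.vec v a b g = eu ∨ c.vec v a b g = ea ∨ c.vec v a b g = add eu ea) :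
    g ∈ c.U := by
  rcases hvec with e | e | hvec
  · exact F.mem_U_of_vec hg (Or.inl e)
  · exact F.mem_U_of_vec hg (Or.inr e)
  exfalso
  have hw : a⁻¹ * g ∈ c.U := by
    refine F.mem_U_of_vec (mul_mem (inv_mem F.shape.a_mem) hg) ?_
    rw [F.vec_mul (inv_mem F.shape.a_mem) hg, F.vec_inv F.shape.a_mem, F.vec_gen.2.2.1]
    rcases hvec with e | e <;> rw [e]
    exacts [Or.inl (add_self _), Or.inr (by decide +kernel)]
  have h1 : t * g * t⁻¹ = a * c.z * (a⁻¹ * g) := by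
    rw [show t * g * t⁻¹ = t * a * t⁻¹ * (t * (a⁻¹ * g) * t⁻¹) by group, F.conj_a ht ht2 hα hne,
      (c.mem_T.1 ht).2 _ hw, mul_inv_cancel_right]
  rw [hgt, mul_inv_cancel_right, mul_assoc, c.z_central a⁻¹ (Subgroup.inv_mem _ (F.core.le F.shape.a_mem)) |>.symm
    |> fun e => (mul_assoc c.z a⁻¹ g).symm.trans (congrArg (· * g) e)] at h1
  rw [mul_assoc a⁻¹ c.z g, mul_inv_cancel_left, right_eq_mul] at h1
  exact c.z_ne h1

/-- The vector of a fixed member of the core. -/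
theorem act_fix {t g : G} (ht : t ∈ (c.S : Subgroup G)) (hg : g ∈ Q) (hgt : t * g = g * t) :
    act β (c.code v a b t) (c.vec v a b g) = c.vec v a b g := by
  rw [← F.sig_eq ht, ← F.vec_conj (c.S_le_loc F.core ht) hg, hgt, mul_inv_cancel_right]

/-- A step outside `T` over an elementary subgroup of order 16. -/
theorem step_sixteen {H : Subgroup G} {n : G} (hn : n ∈ normalizer (H : Set G)) (hH : H ≤ (c.S : Subgroup G))
    (hc : (c.S : Subgroup G) ⊓ centralizer (H : Set G) ≤ H) (hnz : n * c.z * n⁻¹ ≠ c.z) (hHT : ¬ H ≤ c.T)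
    (hV : c.HasSixteen H) {h : G} (hh : h ∈ H) (hodd : (c.code v a b h).1 = true) :
    ∀ y ∈ H, y ∈ F.M → n * y * n⁻¹ ∈ F.M := by
  obtain ⟨V, hVT, hUV, hVH, hVsq, hV16⟩ := hV
  have hVM : V ≤ F.M := F.sixteen_le_M (hVH.trans hH) hVsq hV16.ge
  set z₁ := n * c.z * n⁻¹ with hz₁
  have hz₁H : z₁ ∈ H := (mem_normalizer_iff.1 hn _).1 (c.z_mem_centric hH hc)
  have hz₁2 : z₁ * z₁ = 1 := by
    rw [show z₁ * z₁ = n * (c.z * c.z) * n⁻¹ by rw [hz₁]; group, c.zz]; group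
  have hcen : ∀ x ∈ H, x * z₁ = z₁ * x := by
    intro x hx
    have hy : n⁻¹ * x * n ∈ H := by simpa using (mem_normalizer_iff.1 (inv_mem hn) x).1 hx
    calc x * z₁ = n * (n⁻¹ * x * n * c.z) * n⁻¹ := by rw [hz₁]; group
      _ = z₁ * x := by rw [c.z_central _ (hH hy), hz₁]; group
  have hz₁V : z₁ ∈ V := c.mem_of_sixteen (hVH.trans hH) hVsq hV16.ge (hH hz₁H) hz₁2 fun x hx => hcen x (hVH hx)
  have hz₁U : z₁ ∉ c.U := fun hU => by
    rcases c.mem_U.1 hU with e | e | e | e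
    · exact c.z_ne (conj_eq_one_iff.1 e)
    · exact hnz e
    all_goals
      refine hHT fun x hx => c.mem_T_iff.2 ⟨hH hx, ?_⟩
      have := hcen x hx
      rw [e] at this
    · exact this
    · rw [← mul_assoc, mul_assoc c.u, ← c.z_central x (hH hx), ← mul_assoc] at this
      exact mul_right_cancel this
  have hhS := hH hh
  have hz₁S := hH hz₁H
  have hz₁T := hVT hz₁V
  have hα : (c.code v a b z₁).2.1 = false :=
    (cmul_facts _ _).2.2.1 (F.code_comm hhS hz₁S (hcen h hh)) hodd (hVM hz₁V).2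
  have hwc : c.code v a b z₁ = (false, false, true) := by
    refine (even_code _ (hVM hz₁V).2 hα).resolve_left fun e => hz₁U ?_
    have hzQ := (F.code_eq_cone hz₁S).1 e
    refine F.mem_U_of_vec hzQ (odd_fix β _ _ hodd (F.perp_u hzQ (c.mem_T_iff.1 hz₁T).2) (F.q_zero hzQ hz₁2)
      (F.act_fix hhS hzQ (hcen h hh)))
  have hHQ : ∀ g ∈ H, g ∈ Q → g ∈ c.U := fun g hg hgQ => by
    refine F.fixed_in_U hz₁T hz₁2 hα (by rw [hwc]; decide) hgQ (hcen g hg).symm (fix_wc β _ ?_)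
    rw [← hwc]
    exact F.act_fix hz₁S hgQ (hcen g hg).symm
  intro y hy hyM
  obtain ⟨x, hx, hxc⟩ := F.code_onto hVM hV16.ge (fun g hg => hHQ g (hVH hg)) _ hyM.2
  have hd : y * x⁻¹ ∈ c.U :=
    hHQ _ (mul_mem hy (inv_mem (hVH hx))) ((F.code_eq_iff (hH hy) (hH (hVH hx))).1 hxc.symm)
  have hyV : y ∈ V := by
    have := mul_mem (hUV hd) hx
    rwa [inv_mul_cancel_right] at this
  have hle := F.sixteen_le_M (K := V.map (MulAut.conj n).toMonoidHom) (by
      rintro _ ⟨w, hw, rfl⟩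
      exact hH ((mem_normalizer_iff.1 hn w).1 (hVH hw))) (by
      rintro _ ⟨w, hw, rfl⟩
      rw [← map_mul, hVsq w hw, map_one]) (by rw [card_map_of_injective (MulEquiv.injective _), hV16])
  exact hle ⟨y, hyV, rfl⟩

theorem D_normal {t g : G} (ht : t ∈ c.T) (hg : g ∈ (c.coreT Q)) : t * g * t⁻¹ ∈ (c.coreT Q) :=
  ⟨F.core.normal _ (c.T_le ht) _ hg.1, c.T_normal (c.T_le ht) hg.2⟩

theorem D_card : 16 ≤ Nat.card ↥(c.coreT Q) := by
  have hmem : ∀ p : Bool × Bool × Bool × Bool, c.rep v a b ((p.1, false, p.2.1, p.2.2.1), p.2.2.2) ∈ (c.coreT Q) := fun p => by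
    refine ⟨F.rep_mem _, c.mem_T_iff.2 ⟨F.core.le (F.rep_mem _), ?_⟩⟩
    have h := F.comm_eq (F.rep_mem ((p.1, false, p.2.1, p.2.2.1), p.2.2.2)) (c.u_mem_core F.core)
    rw [F.vec_rep, F.vec_gen.1, bil_eu] at h
    simpa [pw] using h
  have hinj : Function.Injective (fun p : Bool × Bool × Bool × Bool => (⟨_, hmem p⟩ : ↥(c.coreT Q))) := by
    intro p p' e
    have := F.rep_inj (congrArg Subtype.val e)
    simp only [Prod.mk.injEq, true_and] at this
    exact Prod.ext this.1.1 (Prod.ext this.1.2.1 (Prod.ext this.1.2.2 this.2))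
  simpa using Nat.card_le_card_of_injective _ hinj

/-- Two images of `D` meet in `U`. -/
theorem D_inter {m t : G} (hT : ∀ x ∈ c.T, m * x * m⁻¹ ∈ c.T) (hmz : m * c.z * m⁻¹ ≠ c.z) (ht : t ∈ c.T)
    (hodd : (c.code v a b t).1 = true) {g : G} (hg : g ∈ (c.coreT Q)) (hmg : m * g * m⁻¹ ∈ (c.coreT Q)) :
    m * g * m⁻¹ ∈ c.U := by
  have hsq : ∀ x ∈ (c.coreT Q), m * x * m⁻¹ ∈ (c.coreT Q) → q β (c.vec v a b (m * x * m⁻¹)) = false := by
    intro x hx hmx
    have h1 := F.sq_eq hmx.1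
    rw [show m * x * m⁻¹ * (m * x * m⁻¹) = m * (x * x) * m⁻¹ by group, F.sq_eq hx.1] at h1
    by_contra hne
    rw [Bool.not_eq_false] at hne
    rw [hne] at h1
    cases hq : q β (c.vec v a b x) <;> rw [hq] at h1
    · simp only [pw, cond_false, cond_true, mul_one, mul_inv_cancel] at h1
      exact c.z_ne h1.symm
    · exact hmz h1
  set k := m * g * m⁻¹ with hk
  have htS := c.T_le ht
  have ht'' : m⁻¹ * t * m ∈ c.T := conj_surj hT ht
  set g' := m⁻¹ * t * m * g * (m⁻¹ * t * m)⁻¹ with hg'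
  have hk' : t * k * t⁻¹ = m * g' * m⁻¹ := by rw [hk, hg']; group
  have hkk : k * (t * k * t⁻¹) = m * (g * g') * m⁻¹ := by rw [hk', hk]; group
  have h2 : k * (t * k * t⁻¹) ∈ (c.coreT Q) := mul_mem hmg (F.D_normal ht hmg)
  have hq := hsq _ (mul_mem hg (F.D_normal ht'' hg)) (hkk ▸ h2)
  rw [← hkk, F.vec_mul hmg.1 (F.D_normal ht hmg).1, F.vec_conj (c.S_le_loc F.core htS) hmg.1, F.sig_eq htS] at hq
  rcases odd_move β _ _ hodd (F.perp_u hmg.1 (c.mem_T_iff.1 hmg.2).2) (hsq g hg hmg) with e | e | e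
  · exact F.mem_U_of_vec hmg.1 (Or.inl e)
  · exact F.mem_U_of_vec hmg.1 (Or.inr e)
  · rw [e] at hq
    exact absurd hq (by decide)

/-- Conjugates of `D` by the normaliser of `T` and `U` are even. -/
theorem D_conj {m t : G} (hT : ∀ x ∈ c.T, m * x * m⁻¹ ∈ c.T) (ht : t ∈ c.T) (hodd : (c.code v a b t).1 = true)
    {g : G} (hg : g ∈ (c.coreT Q)) : m * g * m⁻¹ ∈ F.M := by
  have hgT := hT g hg.2
  have hgS := c.T_le hgT
  by_cases hmz : m * c.z * m⁻¹ = c.z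
  · exact (F.parity_conj (mul_inv_eq_iff_eq_mul.1 hmz) (c.T_le hg.2) hgS).2 (F.Q_le_M hg.1)
  have hb : b ∈ (c.coreT Q) := ⟨F.shape.b_mem, c.mem_T_iff.2 ⟨F.core.le F.shape.b_mem, F.shape.bu⟩⟩
  set d := m * g * m⁻¹ with hd
  have hb' : m⁻¹ * b * m ∈ c.T := conj_surj hT hb.2
  set g₂ := g * (m⁻¹ * b * m * g⁻¹ * (m⁻¹ * b * m)⁻¹) with hg₂
  have hg₂D : g₂ ∈ (c.coreT Q) := mul_mem hg (F.D_normal hb' (inv_mem hg))
  have hk : d * b * d⁻¹ * b⁻¹ = m * g₂ * m⁻¹ := by rw [hd, hg₂]; group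
  have hkD : m * g₂ * m⁻¹ ∈ (c.coreT Q) := hk ▸ mul_mem (F.D_normal hgT hb) (inv_mem hb)
  have hkU := F.D_inter hT hmz ht hodd hg₂D hkD
  rw [← hk] at hkU
  refine F.mem_M.2 ⟨hgS, ?_⟩
  have hL := c.S_le_loc F.core hgS
  have h1 : c.sig v a b d eb = add (c.vec v a b (d * b * d⁻¹ * b⁻¹)) eb := by
    conv_lhs => rw [← F.vec_gen.2.2.2.1, ← F.vec_conj hL hb.1, show d * b * d⁻¹ = d * b * d⁻¹ * b⁻¹ * b by group,
      F.vec_mul (F.U_le hkU) hb.1, F.vec_gen.2.2.2.1]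
  show (c.sig v a b d eb).2.2.1 = false
  rcases F.vec_U hkU with e | e <;> rw [h1, e] <;> rfl

/-- A step inside `T` normalising the four-group. -/
theorem step_T_normal {H : Subgroup G} {n : G} (hn : n ∈ normalizer (H : Set G)) (hH : H ≤ c.T)
    (hnz : n * c.z * n⁻¹ ≠ c.z) (hU : ∀ w ∈ c.U, n * w * n⁻¹ ∈ c.U) {h : G} (hh : h ∈ H)
    (hodd : (c.code v a b h).1 = true) : ∀ y ∈ H, y ∈ F.M → n * y * n⁻¹ ∈ F.M := by
  haveI := Fact.mk Nat.prime_two
  set N := normalizer (c.U : Set G) with hN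
  have hSN : (c.S : Subgroup G) ≤ N := fun s hs => mem_normalizer_of_conj (c.U_normal s hs)
  set L := (centralizer (c.U : Set G)).subgroupOf N with hL
  haveI hLn : L.Normal := by
    refine ⟨fun x hx g => mem_subgroupOf.2 (mem_centralizer_iff.2 fun w hw => ?_)⟩
    have hw' : (g : G)⁻¹ * w * g ∈ c.U := conj_surj (fun y hy => (mem_normalizer_iff.1 g.2 y).1 hy) hw
    have := mem_centralizer_iff.1 (mem_subgroupOf.1 hx) _ hw'
    show w * ((g : G) * x * (g : G)⁻¹) = (g : G) * x * (g : G)⁻¹ * w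
    calc w * ((g : G) * x * (g : G)⁻¹) = g * ((g : G)⁻¹ * w * g * x) * (g : G)⁻¹ := by group
      _ = _ := by rw [this]; group
  set SX : Sylow 2 ↥N := c.S.subtype hSN with hSX
  obtain ⟨P, hPmap⟩ := CfsgLib.PLocal.exists_sylow_inf SX L
  have htop := Sylow.normalizer_sup_eq_top P
  rw [hPmap, sup_comm] at htop
  have hn' : (⟨n, mem_normalizer_of_conj hU⟩ : ↥N) ∈ L ⊔ normalizer (((SX : Subgroup ↥N) ⊓ L : Subgroup ↥N) : Set ↥N) :=
    htop ▸ mem_top _
  rw [← SetLike.mem_coe, Subgroup.normal_mul] at hn'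
  obtain ⟨k, hk, m, hm, e⟩ := hn'
  have hnkm : n = (k : G) * (m : G) := (congrArg Subtype.val e).symm
  have hkc : ∀ w ∈ c.U, (k : G) * w = w * k := fun w hw => (mem_centralizer_iff.1 (mem_subgroupOf.1 hk) w hw).symm
  have hmT : ∀ x ∈ c.T, (m : G) * x * (m : G)⁻¹ ∈ c.T := fun x hx => by
    have h1 := (mem_normalizer_iff.1 hm ⟨x, hSN (c.T_le hx)⟩).1 ⟨c.T_le hx, mem_subgroupOf.2 hx.2⟩
    exact ⟨h1.1, mem_subgroupOf.1 h1.2⟩
  have hmU : ∀ w ∈ c.U, (m : G) * w * (m : G)⁻¹ ∈ c.U := fun w hw => (mem_normalizer_iff.1 m.2 w).1 hw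
  have hmz : (m : G) * c.z * (m : G)⁻¹ ≠ c.z := fun e' => hnz (by
    rw [hnkm, show (k : G) * m * c.z * ((k : G) * m)⁻¹ = k * (m * c.z * (m : G)⁻¹) * (k : G)⁻¹ by group, e',
      hkc _ c.z_mem, mul_inv_cancel_right])
  have hmm : ∀ x ∈ c.T, (m : G) * m * x * ((m : G) * m)⁻¹ ∈ c.T := fun x hx => by
    have := hmT _ (hmT x hx)
    rwa [show (m : G) * m * x * ((m : G) * m)⁻¹ = m * (m * x * (m : G)⁻¹) * (m : G)⁻¹ by group]
  have hhT := hH hh
  set K := (c.coreT Q).map (MulAut.conj (m : G)).toMonoidHom with hK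
  have hKM : K ≤ F.M := by
    rintro _ ⟨g, hg, rfl⟩
    exact F.D_conj hmT hhT hodd hg
  have hKQ : ∀ x ∈ K, x ∈ Q → x ∈ c.U := by
    rintro _ ⟨g, hg, rfl⟩ hxQ
    exact F.D_inter hmT hmz hhT hodd hg ⟨hxQ, hmT g hg.2⟩
  have hK16 : 16 ≤ Nat.card ↥K := by
    rw [card_map_of_injective (MulEquiv.injective _)]; exact F.D_card
  intro y hy hyM
  obtain ⟨x, hx, hxc⟩ := F.code_onto hKM hK16 hKQ _ hyM.2
  obtain ⟨g, hg, rfl⟩ := hx
  change c.code v a b ((m : G) * g * (m : G)⁻¹) = _ at hxc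
  have hgT := hmT g hg.2
  have hd : y * ((m : G) * g * (m : G)⁻¹)⁻¹ ∈ (c.coreT Q) :=
    ⟨(F.code_eq_iff (c.T_le (hH hy)) (c.T_le hgT)).1 hxc.symm, Subgroup.mul_mem _ (hH hy) (Subgroup.inv_mem _ hgT)⟩
  have hmy : (m : G) * y * (m : G)⁻¹ ∈ F.M := by
    rw [show (m : G) * y * (m : G)⁻¹ = m * (y * ((m : G) * g * (m : G)⁻¹)⁻¹) * (m : G)⁻¹ *
      (m * m * g * ((m : G) * m)⁻¹) by group]
    exact mul_mem (F.D_conj hmT hhT hodd hd) (F.D_conj hmm hhT hodd hg)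
  have hny : n * y * n⁻¹ = k * (m * y * (m : G)⁻¹) * (k : G)⁻¹ := by rw [hnkm]; group
  have hnyS : n * y * n⁻¹ ∈ (c.S : Subgroup G) := c.T_le (hH ((mem_normalizer_iff.1 hn y).1 hy))
  rw [hny] at hnyS ⊢
  exact (F.parity_conj (hkc _ c.z_mem) hmy.1 hnyS).2 hmy

/-- A step inside `T` moving the four-group. -/
theorem step_T_moving {H : Subgroup G} {n : G} (hn : n ∈ normalizer (H : Set G)) (hH : H ≤ c.T)
    (hc : (c.S : Subgroup G) ⊓ centralizer (H : Set G) ≤ H)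
    (hnz : n * c.z * n⁻¹ ≠ c.z) (hU : ¬ ∀ w ∈ c.U, n * w * n⁻¹ ∈ c.U) {h : G} (hh : h ∈ H)
    (hodd : (c.code v a b h).1 = true) : ∀ y ∈ H, y ∈ F.M → n * y * n⁻¹ ∈ F.M := by
  classical
  have hS : ∀ {x : G}, x ∈ H → x ∈ (c.S : Subgroup G) := fun hx => c.T_le (hH hx)
  have hUH : c.U ≤ H := fun w hw => hc ⟨c.U_le hw, mem_centralizer_iff.2 fun x hx => (c.mem_T.1 (hH hx)).2 w hw⟩
  let E : Subgroup G :=
    { carrier := {x | x ∈ H ∧ x * x = 1 ∧ ∀ y ∈ H, y * x = x * y}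
      one_mem' := ⟨H.one_mem, one_mul 1, fun y _ => by simp⟩
      mul_mem' := by
        rintro p p' ⟨hp, hp2, hpc⟩ ⟨hp', hp2', hpc'⟩
        refine ⟨mul_mem hp hp', sq_mul_of_comm hp2 hp2' (hpc p' hp').symm, fun y hy => ?_⟩
        rw [← mul_assoc, hpc y hy, mul_assoc, hpc' y hy, ← mul_assoc]
      inv_mem' := by
        rintro p ⟨hp, hp2, hpc⟩
        rw [show p⁻¹ = p from eq_inv_of_sq hp2]
        exact ⟨hp, hp2, hpc⟩ }
  have hUE : c.U ≤ E := fun w hw => ⟨hUH hw, c.U_sq w hw, fun y hy => (c.mem_T.1 (hH hy)).2 w hw⟩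
  have hEconj : ∀ g ∈ normalizer (H : Set G), ∀ x ∈ E, g * x * g⁻¹ ∈ E := by
    rintro g hg x ⟨hx, hx2, hxc⟩
    refine ⟨(mem_normalizer_iff.1 hg x).1 hx, ?_, fun y hy => ?_⟩
    · rw [show g * x * g⁻¹ * (g * x * g⁻¹) = g * (x * x) * g⁻¹ by group, hx2]; group
    · have hy' : g⁻¹ * y * g ∈ H := conj_surj (fun w hw => (mem_normalizer_iff.1 hg w).1 hw) hy
      calc y * (g * x * g⁻¹) = g * (g⁻¹ * y * g * x) * g⁻¹ := by group
        _ = g * x * g⁻¹ * y := by rw [hxc _ hy']; group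
  obtain ⟨e, heE, heU⟩ : ∃ e ∈ E, e ∉ c.U := by
    by_contra hno
    push Not at hno
    exact hU fun w hw => hno _ (hEconj n hn w (hUE hw))
  have hαE : ∀ x ∈ E, (c.code v a b x).2.1 = false := by
    intro x hx
    rcases Bool.eq_false_or_eq_true (c.code v a b x).1 with e' | e'
    · exact (F.alpha_of_comm (hS hx.1) (hS hx.1) rfl hx.2.1 e').1
    · exact (cmul_facts _ _).2.2.1 (F.code_comm (hS hh) (hS hx.1) (hx.2.2 h hh)) hodd e'
  have hEQ : ∀ x ∈ E, x ∈ Q → x ∈ c.U := fun x hx hxQ =>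
    F.mem_U_of_vec hxQ (odd_fix β _ _ hodd (F.perp_u hxQ (c.mem_T_iff.1 (hH hx.1)).2) (F.q_zero hxQ hx.2.1)
      (F.act_fix (hS hh) hxQ (hx.2.2 h hh)))
  have hne : ∀ {x}, x ∈ E → x ∉ c.U → c.code v a b x ≠ cone := fun {x} hx hxU e' =>
    hxU (hEQ x hx ((F.code_eq_cone (hS hx.1)).1 e'))
  have hcodeE : ∀ {x y}, x ∈ E → x ∉ c.U → y ∈ E → y ∉ c.U → c.code v a b x = c.code v a b y := by
    intro x y hx hxU hy hyU
    by_contra hxy
    exact F.no_four (hH hx.1) (hH hy.1) hx.2.1 hy.2.1 (hy.2.2 x hx.1) (hαE x hx) (hαE y hy) (hne hx hxU)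
      (hne hy hyU) hxy
  have hea : ∀ {x}, x ∈ E → x ∉ c.U → x * a * x⁻¹ = a * c.z := fun hx hxU =>
    F.conj_a (hH hx.1) hx.2.1 (hαE _ hx) (hne hx hxU)
  have haQ := F.shape.a_mem
  have haU : ∀ w ∈ c.U, Commute a w := fun w hw =>
    ((c.mem_T.1 (c.mem_T_iff.2 ⟨F.core.le haQ, F.shape.au⟩)).2 w hw)
  have haH : ∀ y ∈ H, ∃ w ∈ c.U, a * y * a⁻¹ = y * w := by
    intro y hy
    refine ⟨_, inv_mem (F.fix y (hS hy)), ?_⟩
    have h1 := haU _ (F.fix y (hS hy))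
    have h2 := (c.mem_T.1 (hH hy)).2 _ (inv_mem (F.fix y (hS hy)))
    rw [h2]
    calc a * y * a⁻¹ = (a * (a⁻¹ * (y * a * y⁻¹)) * a⁻¹)⁻¹ * y := by group
      _ = _ := by rw [h1.eq, mul_inv_cancel_right]
  rcases Bool.eq_false_or_eq_true (c.code v a b e).1 with heodd | heven
  swap
  · -- `e` even
    have hHQ : ∀ g ∈ H, g ∈ Q → g ∈ c.U := fun g hg hgQ =>
      F.fixed_in_U (hH heE.1) heE.2.1 (hαE e heE) (hne heE heU) hgQ (heE.2.2 g hg).symm
        (fix_perp β _ _ (hαE e heE) (hne heE heU) (F.perp_u hgQ (c.mem_T_iff.1 (hH hg)).2)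
          (F.act_fix (hS heE.1) hgQ (heE.2.2 g hg).symm))
    have hEM : ∀ x ∈ E, x ∈ F.M := fun x hx => by
      by_cases hxU : x ∈ c.U
      · exact F.U_le_M hxU
      · exact F.mem_M.2 ⟨hS hx.1, by rw [hcodeE hx hxU heE heU]; exact heven⟩
    intro y hy hyM
    by_cases hyE : y ∈ E
    · exact hEM _ (hEconj n hn y hyE)
    exfalso
    have hwc : c.code v a b e = (false, false, true) :=
      (even_code _ heven (hαE e heE)).resolve_left (hne heE heU)
    have hyα : (c.code v a b y).2.1 = true := by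
      by_contra h0
      rw [Bool.not_eq_true] at h0
      rcases even_code _ hyM.2 h0 with e' | e'
      · exact hyE (hUE (hHQ y hy ((F.code_eq_cone (hS hy)).1 e')))
      · have := hHQ _ (mul_mem hy (inv_mem heE.1)) ((F.code_eq_iff (hS hy) (hS heE.1)).1 (e'.trans hwc.symm))
        refine hyE ?_
        have := mul_mem (hUE this) heE
        rwa [inv_mul_cancel_right] at this
    set k := h * y * (y * h)⁻¹ with hk
    have hkH : k ∈ H := mul_mem (mul_mem hh hy) (inv_mem (mul_mem hy hh))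
    have hkc : c.code v a b k = (false, false, true) := by
      rw [hk, F.code_mul (hS (mul_mem hh hy)) (hS (inv_mem (mul_mem hy hh))), F.code_inv (hS (mul_mem hy hh)),
        F.code_mul (hS hh) (hS hy), F.code_mul (hS hy) (hS hh)]
      exact (cmul_facts _ _).2.2.2.2.1 hodd hyM.2 hyα
    have hd : k * e⁻¹ ∈ c.U :=
      hHQ _ (mul_mem hkH (inv_mem heE.1)) ((F.code_eq_iff (hS hkH) (hS heE.1)).1 (hkc.trans hwc.symm))
    have hak : a * k * a⁻¹ = k := by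
      obtain ⟨w, hw, ew⟩ := haH h hh
      obtain ⟨w', hw', ew'⟩ := haH y hy
      have hcw : ∀ x ∈ H, ∀ p ∈ c.U, Commute p x := fun x hx p hp => ((c.mem_T.1 (hH hx)).2 p hp).symm
      have e1 : a * (h * y) * a⁻¹ = h * y * (w * w') := by
        rw [show a * (h * y) * a⁻¹ = a * h * a⁻¹ * (a * y * a⁻¹) by group, ew, ew']
        exact Commute.mul_mul_mul_comm (hcw y hy w hw) _ _
      have e2 : a * (y * h) * a⁻¹ = y * h * (w * w') := by
        rw [show a * (y * h) * a⁻¹ = a * y * a⁻¹ * (a * h * a⁻¹) by group, ew, ew', c.U_comm hw hw']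
        exact Commute.mul_mul_mul_comm (hcw h hh w' hw') _ _
      rw [hk, show a * (h * y * (y * h)⁻¹) * a⁻¹ = a * (h * y) * a⁻¹ * (a * (y * h) * a⁻¹)⁻¹ by group, e1, e2]
      group
    have hae : Commute a e := by
      have h1 : Commute a k := mul_inv_eq_iff_eq_mul.1 hak
      have := (haU _ (inv_mem hd)).mul_right h1
      rwa [mul_inv_rev, inv_inv, inv_mul_cancel_right] at this
    have := hea heE heU
    rw [← hae.eq, mul_inv_cancel_right, left_eq_mul] at this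
    exact c.z_ne this
  -- `e` odd
  have hodd' : ∀ {x}, x ∈ E → x ∉ c.U → (c.code v a b x).1 = true := fun hx hxU => by
    rw [hcodeE hx hxU heE heU]; exact heodd
  have haN : a ∈ normalizer (H : Set G) := mem_normalizer_of_conj fun y hy => by
    obtain ⟨w, hw, e'⟩ := haH y hy
    rw [e']; exact mul_mem hy (hUH hw)
  have skew : ∀ {x}, x ∈ E → x ∉ c.U →
      ∃ c₀ ∈ normalizer (H : Set G), c₀ * x = x * c₀ ∧ c₀ * c.u * c₀⁻¹ = c.u * c.z ∧ c₀ * c.z * c₀⁻¹ = c.z := by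
    intro x hx hxU
    have hxS := hS hx.1
    obtain ⟨p, hp1, hp2⟩ := exists_fix_skew β _ (hodd' hx hxU) (hαE x hx)
    have hgQ := F.rep_mem (p, false)
    obtain ⟨g, hgQ, hgj, hgx⟩ : ∃ g ∈ Q, (c.vec v a b g).2.1 = true ∧ x * g * x⁻¹ = g := by
      have h1 := F.vec_conj (c.S_le_loc F.core hxS) hgQ
      rw [F.sig_eq hxS, F.vec_rep, hp2] at h1
      rcases F.vec_eq (F.conj_mem (c.S_le_loc F.core hxS) hgQ) hgQ (by rw [h1, F.vec_rep]) with e' | e'
      · exact ⟨_, hgQ, by rw [F.vec_rep]; exact hp1, e'⟩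
      · refine ⟨_, mul_mem hgQ haQ, ?_, ?_⟩
        · rw [F.vec_mul hgQ haQ, F.vec_rep, F.vec_gen.2.2.1]
          simp [add, hp1, ea]
        · rw [show x * (c.rep v a b (p, false) * a) * x⁻¹ = x * c.rep v a b (p, false) * x⁻¹ * (x * a * x⁻¹) by group,
            e', hea hx hxU, mul_assoc, ← mul_assoc c.z a c.z, ← c.z_central a (F.core.le haQ), mul_assoc a, c.zz,
            mul_one]
    have hgS := F.core.le hgQ
    have hgT : g ∉ c.T := fun hT => by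
      rw [F.perp_u hgQ (c.mem_T_iff.1 hT).2] at hgj
      exact absurd hgj (by decide)
    refine ⟨g, mem_normalizer_of_conj fun y hy => ?_, (mul_inv_eq_iff_eq_mul.1 hgx).symm, c.conj_u hgS hgT,
      by rw [c.z_central g hgS, mul_inv_cancel_right]⟩
    have hkQ : g * y * g⁻¹ * y⁻¹ ∈ Q := by
      rw [show g * y * g⁻¹ * y⁻¹ = g * (y * g⁻¹ * y⁻¹) by group]
      exact mul_mem hgQ (F.core.normal _ (hS hy) _ (inv_mem hgQ))
    have hkT := c.commutator_mem_T hgS (hS hy)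
    have hkx : x * (g * y * g⁻¹ * y⁻¹) = g * y * g⁻¹ * y⁻¹ * x := by
      have h1 : Commute x g := mul_inv_eq_iff_eq_mul.1 hgx
      have h2 : Commute x y := (hx.2.2 y hy).symm
      exact (((h1.mul_right h2).mul_right h1.inv_right).mul_right h2.inv_right).eq
    have hkU := F.fixed_in_U (hH hx.1) hx.2.1 (hαE x hx) (hne hx hxU) hkQ hkx
      (fix_perp β _ _ (hαE x hx) (hne hx hxU) (F.perp_u hkQ (c.mem_T_iff.1 hkT).2) (F.act_fix hxS hkQ hkx))
    have := mul_mem (hUH hkU) hy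
    rwa [inv_mul_cancel_right] at this
  have hK : ∀ g ∈ normalizer (H : Set G), g * c.z * g⁻¹ = c.z → ∀ w ∈ c.U, g * w * g⁻¹ ∈ c.U := by
    intro g hg hgz w hw
    have hgw := hEconj g hg w (hUE hw)
    by_contra hnot
    have := (F.parity_conj (mul_inv_eq_iff_eq_mul.1 hgz) (c.U_le hw) (hS hgw.1)).2 (F.U_le_M hw)
    rw [F.mem_M, hodd' hgw hnot] at this
    exact absurd this.2 (by decide)
  exfalso
  -- a conjugate of `z` outside `U`
  obtain ⟨g, hg, hgzU⟩ : ∃ g ∈ normalizer (H : Set G), g * c.z * g⁻¹ ∉ c.U := by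
    by_contra hall
    push Not at hall
    obtain ⟨g₀, hg₀, hu₀⟩ : ∃ g₀ ∈ normalizer (H : Set G), g₀ * c.z * g₀⁻¹ = c.u := by
      rcases c.mem_U.1 (hall n hn) with e' | e' | e' | e'
      · exact absurd (conj_eq_one_iff.1 e') c.z_ne
      · exact absurd e' hnz
      · exact ⟨n, hn, e'⟩
      · obtain ⟨c₀, hc₀, -, hc₀u, hc₀z⟩ := skew heE heU
        refine ⟨c₀ * n, mul_mem hc₀ hn, ?_⟩
        rw [show c₀ * n * c.z * (c₀ * n)⁻¹ = c₀ * (n * c.z * n⁻¹) * c₀⁻¹ by group, e',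
          show c₀ * (c.u * c.z) * c₀⁻¹ = c₀ * c.u * c₀⁻¹ * (c₀ * c.z * c₀⁻¹) by group, hc₀u, hc₀z, mul_assoc, c.zz,
          mul_one]
    refine hU fun w hw => ?_
    have hnu : n * c.u * n⁻¹ ∈ c.U := by
      have := hall (n * g₀) (mul_mem hn hg₀)
      rwa [show n * g₀ * c.z * (n * g₀)⁻¹ = n * (g₀ * c.z * g₀⁻¹) * n⁻¹ by group, hu₀] at this
    rcases c.mem_U.1 hw with rfl | rfl | rfl | rfl
    · simp
    · exact hall n hn
    · exact hnu
    · rw [← conj_mul]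
      exact mul_mem hnu (hall n hn)
  set e' := g * c.z * g⁻¹ with he'
  have he'E : e' ∈ E := hEconj g hg _ (hUE c.z_mem)
  have hgW : ∀ w ∈ c.U, g * w * g⁻¹ ∈ E := fun w hw => hEconj g hg w (hUE hw)
  -- the conjugate four-group contains `z`
  obtain ⟨p, hpU, hgp⟩ : ∃ p ∈ c.U, g * p * g⁻¹ = c.z := by
    obtain ⟨w₀, hw₀, hy, hy1⟩ : ∃ w₀ ∈ c.U, g * w₀ * g⁻¹ ∈ c.U ∧ g * w₀ * g⁻¹ ≠ 1 := by
      by_cases hxU : g * c.u * g⁻¹ ∈ c.U
      · exact ⟨_, c.u_mem, hxU, fun h => c.u_ne (conj_eq_one_iff.1 h)⟩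
      · refine ⟨_, mul_mem c.u_mem c.z_mem, ?_, fun h => c.uz_ne (conj_eq_one_iff.1 h)⟩
        have hx := hgW _ c.u_mem
        have hd := (F.code_eq_iff (hS hx.1) (hS he'E.1)).1 (hcodeE hx hxU he'E hgzU)
        rw [eq_inv_of_sq he'E.2.1, he', conj_mul] at hd
        exact hEQ _ (hgW _ (mul_mem c.u_mem c.z_mem)) hd
    obtain ⟨c₀, hc₀, hc₀e, hc₀u, hc₀z⟩ := skew he'E hgzU
    set d := g⁻¹ * c₀ * g with hd
    have hdN : d ∈ normalizer (H : Set G) := mul_mem (mul_mem (inv_mem hg) hc₀) hg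
    have hdz : d * c.z * d⁻¹ = c.z := by
      rw [hd, show g⁻¹ * c₀ * g * c.z * (g⁻¹ * c₀ * g)⁻¹ = g⁻¹ * (c₀ * (g * c.z * g⁻¹) * c₀⁻¹) * g by group, hc₀e,
        mul_inv_cancel_right, he']
      group
    have hdw := hK d hdN hdz w₀ hw₀
    rcases c.mem_U.1 hy with e1 | e1 | e1 | e1
    · exact absurd e1 hy1
    · exact ⟨w₀, hw₀, e1⟩
    all_goals
      refine ⟨w₀ * (d * w₀ * d⁻¹), mul_mem hw₀ hdw, ?_⟩
      rw [show g * (w₀ * (d * w₀ * d⁻¹)) * g⁻¹ = g * w₀ * g⁻¹ * (c₀ * (g * w₀ * g⁻¹) * c₀⁻¹) by rw [hd]; group, e1]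
    · rw [hc₀u, ← mul_assoc, c.uu, one_mul]
    · rw [show c₀ * (c.u * c.z) * c₀⁻¹ = c₀ * c.u * c₀⁻¹ * (c₀ * c.z * c₀⁻¹) by group, hc₀u, hc₀z,
        mul_assoc c.u c.z c.z, c.zz, mul_one, c.uz_comm, mul_assoc, c.uu, mul_one]
  -- `a` shows that the conjugate of `U` is `U`
  have hgaz : g * a * g⁻¹ * c.z * (g * a * g⁻¹)⁻¹ = c.z := by
    rw [← hgp, show g * a * g⁻¹ * (g * p * g⁻¹) * (g * a * g⁻¹)⁻¹ = g * (a * p * a⁻¹) * g⁻¹ by group, (haU p hpU).eq,
      mul_inv_cancel_right]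
  have hK' := hK _ (mul_mem (mul_mem hg haN) (inv_mem hg)) hgaz
  have hg'U : ∀ w ∈ c.U, g⁻¹ * w * g ∈ c.U := by
    have hzp : g⁻¹ * c.z * g = p := by rw [← hgp]; group
    have hyU : g⁻¹ * c.u * g ∈ c.U := by
      by_contra hyU
      have hy : g⁻¹ * c.u * g ∈ E := by simpa using hEconj _ (inv_mem hg) _ (hUE c.u_mem)
      have h1 := hea hy hyU
      set y := g⁻¹ * c.u * g with hy'
      have h2 : a * y * a⁻¹ = y * c.z := by
        have h3 : y * a = a * c.z * y := mul_inv_eq_iff_eq_mul.1 h1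
        calc a * y * a⁻¹ = a * c.z * y * a⁻¹ * c.z := by
              have hzy : c.z * y = y * c.z := (c.z_central y (hS hy.1)).symm
              have hza : c.z * a⁻¹ = a⁻¹ * c.z := (c.z_central _ (Subgroup.inv_mem _ (F.core.le haQ))).symm
              calc a * y * a⁻¹ = a * (c.z * c.z) * y * a⁻¹ := by rw [c.zz, mul_one]
                _ = a * c.z * (c.z * y) * a⁻¹ := by group
                _ = a * c.z * y * (c.z * a⁻¹) := by rw [hzy]; group
                _ = _ := by rw [hza]; group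
          _ = y * c.z := by rw [← h3, mul_inv_cancel_right]
      have h4 := hK' c.u c.u_mem
      refine hgzU ?_
      show g * c.z * g⁻¹ ∈ c.U
      have h5 : g * c.z * g⁻¹ = (g * y * g⁻¹)⁻¹ * (g * (y * c.z) * g⁻¹) := by group
      rw [h5, ← h2, hy', show g * (g⁻¹ * c.u * g) * g⁻¹ = c.u by group,
        show g * (a * (g⁻¹ * c.u * g) * a⁻¹) * g⁻¹ = g * a * g⁻¹ * c.u * (g * a * g⁻¹)⁻¹ by group]
      exact mul_mem (inv_mem c.u_mem) h4
    intro w hw
    rcases c.mem_U.1 hw with rfl | rfl | rfl | rfl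
    · simp
    · rw [hzp]; exact hpU
    · exact hyU
    · rw [show g⁻¹ * (c.u * c.z) * g = g⁻¹ * c.u * g * (g⁻¹ * c.z * g) by group, hzp]
      exact mul_mem hyU hpU
  exact hgzU (by simpa using conj_surj (g := g⁻¹) (H := c.U) (by simpa using hg'U) c.z_mem)

end ExtraFrame

/-- The extraspecial shape is impossible. -/
theorem extra_false (c : Ctx2 G) (Q : Subgroup G) (hQ : c.Core c.z Q) (v a b : G) (h : c.ExtraShape Q v a b) :
    False := by
  obtain ⟨a', b', β, F⟩ := h.exists_frame hQ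
  obtain ⟨w, hw, hodd⟩ := F.exists_odd
  refine c.false_of_steps F.M_le (F.M_index hw hodd) fun H n hs x hxH hx hnx => ?_
  refine F.move_of_iff hx hnx ?_
  by_cases hnz : n * c.z * n⁻¹ = c.z
  · exact F.parity_conj (mul_inv_eq_iff_eq_mul.1 hnz) hx hnx
  rcases c.step_cases hs hnz with h' | ⟨hn, hH, hc, h'⟩
  · rw [← mem_centralizer_iff.1 h' x hxH, mul_inv_cancel_right]
  refine F.iff_of_maps hn ?_ hxH
  by_cases hM : H ≤ F.M
  · exact fun y hy _ => hM ((mem_normalizer_iff.1 hn y).1 hy)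
  obtain ⟨t, ht, htM⟩ := SetLike.not_le_iff_exists.1 hM
  have hodd' : (c.code v a' b' t).1 = true := by simpa [F.mem_M, hH ht] using htM
  by_cases hHT : H ≤ c.T
  · by_cases hU : ∀ y ∈ c.U, n * y * n⁻¹ ∈ c.U
    · exact F.step_T_normal hn hHT hnz hU ht hodd'
    · exact F.step_T_moving hn hHT hc hnz hU ht hodd'
  · exact F.step_sixteen hn hH hc hnz hHT (h'.resolve_left hHT).1 ht hodd'

end Ctx2

end CfsgLib.NoEightConstrained
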